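import Groth.Prelude.Def_SGA4a
import Mathlib

/-!
# Sheaves on a small site satisfy Giraud's axioms
-/

set_option autoImplicit false

universe u

open CategoryTheory CategoryTheory.Limits Opposite

namespace Groth.Agent.Lib.Giraud

theorem types_inj {κ : Type u} {G : κ → Type u} {c : Cofan G} (hc : IsColimit c) {i j : κ}
    {a : G i} {b : G j} (h : c.inj i a = c.inj j b) :
    (⟨i, a⟩ : Σ k, G k) = ⟨j, b⟩ := by
  have := congrArg (Cofan.IsColimit.desc hc fun k => ↾fun x => (⟨k, x⟩ : Σ k, G k)) h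
  simpa [← types_comp_apply] using this

theorem types_surj {κ : Type u} {G : κ → Type u} {c : Cofan G} (hc : IsColimit c) (x : c.pt) :
    ∃ i a, c.inj i a = x := by
  obtain ⟨⟨i⟩, a, ha⟩ := Types.jointly_surjective_of_isColimit hc x
  exact ⟨i, a, ha⟩

/-- A cofan of types bijective from the sum is a colimit. -/
noncomputable def typesIsColimit {κ : Type u} {G : κ → Type u} (c : Cofan G)
    (h : Function.Bijective fun p : Σ k, G k => c.inj p.1 p.2) : IsColimit c :=
  mkCofanColimit c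
    (fun s => ↾fun x => s.inj ((Equiv.ofBijective _ h).symm x).1 ((Equiv.ofBijective _ h).symm x).2)
    (fun s j => by
      ext a
      have : (Equiv.ofBijective _ h).symm (c.inj j a) = ⟨j, a⟩ :=
        (Equiv.ofBijective _ h).symm_apply_eq.2 rfl
      show s.inj ((Equiv.ofBijective _ h).symm (c.inj j a)).1 ((Equiv.ofBijective _ h).symm (c.inj j a)).2 = s.inj j a
      rw [this])
    (fun s m hm => by
      ext x
      obtain ⟨⟨j, a⟩, rfl⟩ := h.2 x
      have : (Equiv.ofBijective _ h).symm (c.inj j a) = ⟨j, a⟩ :=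
        (Equiv.ofBijective _ h).symm_apply_eq.2 rfl
      show m (c.inj j a) = s.inj ((Equiv.ofBijective _ h).symm (c.inj j a)).1 ((Equiv.ofBijective _ h).symm (c.inj j a)).2
      rw [this]
      exact congr($(hm j) a))

theorem types_universal {κ : Type u} {G : κ → Type u} {c : Cofan G} (hc : IsColimit c) :
    IsUniversalColimit c := by
  intro F' c' α f hw _ H
  obtain ⟨G', rfl⟩ : ∃ G', F' = Discrete.functor G' :=
    ⟨fun k => F'.obj ⟨k⟩, CategoryTheory.Functor.ext (fun _ => rfl) (by rintro ⟨i⟩ ⟨j⟩ ⟨⟨h⟩⟩; cases h; simp)⟩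
  let c'' : Cofan G' := c'
  refine ⟨typesIsColimit c'' ⟨?_, ?_⟩⟩
  · rintro ⟨i, a⟩ ⟨j, b⟩ (h : c''.inj i a = c''.inj j b)
    have e : c.inj i (α.app ⟨i⟩ a) = c.inj j (α.app ⟨j⟩ b) := by
      have h1 : c.inj i (α.app ⟨i⟩ a) = f (c''.inj i a) := congr($(NatTrans.congr_app hw ⟨i⟩) a)
      have h2 : c.inj j (α.app ⟨j⟩ b) = f (c''.inj j b) := congr($(NatTrans.congr_app hw ⟨j⟩) b)
      rw [h1, h2, h]
    have h3 := types_inj hc e
    obtain ⟨rfl, h4⟩ := Sigma.mk.inj_iff.1 h3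
    have := ((Types.isPullback_iff _ _ _ _).1 (H ⟨i⟩)).2.1 a b ⟨h, eq_of_heq h4⟩
    rw [this]
  · intro x
    obtain ⟨i, a, ha⟩ := types_surj hc (f x)
    obtain ⟨y, hy, -⟩ := ((Types.isPullback_iff _ _ _ _).1 (H ⟨i⟩)).2.2 x a ha.symm
    exact ⟨⟨i, y⟩, hy⟩

theorem presheaf_universal {C : Type u} [SmallCategory C] {κ : Type u}
    {D : Discrete κ ⥤ Cᵒᵖ ⥤ Type u} {c : Cocone D} (hc : IsColimit c) : IsUniversalColimit c := by
  intro F' c' α f hw hα H
  suffices key : ∀ x, Nonempty (IsColimit (((evaluation Cᵒᵖ (Type u)).obj x).mapCocone c')) from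
    ⟨evaluationJointlyReflectsColimits _ fun x => (key x).some⟩
  intro x
  let ev := (evaluation Cᵒᵖ (Type u)).obj x
  obtain ⟨G, hG⟩ : ∃ G, D ⋙ ev = Discrete.functor G :=
    ⟨fun k => (D ⋙ ev).obj ⟨k⟩, CategoryTheory.Functor.ext (fun _ => rfl) (by rintro ⟨i⟩ ⟨j⟩ ⟨⟨h⟩⟩; cases h; simp)⟩
  have hu : IsUniversalColimit (ev.mapCocone c) := by
    have hcx := isColimitOfPreserves ev hc
    revert hcx
    generalize ev.mapCocone c = d
    revert d
    rw [hG]
    intro d hd
    exact types_universal hd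
  exact hu (ev.mapCocone c') (Functor.whiskerRight α ev) (ev.map f)
    (by ext j : 2; exact NatTrans.congr_app (NatTrans.congr_app hw j) x)
    (NatTrans.Equifibered.of_discrete _) fun j => (H j).map ev

variable {C : Type u} [SmallCategory C] (J : GrothendieckTopology C)

theorem sheaf_hasDisjointUniversalCoproducts :
    SGA4.HasDisjointUniversalCoproducts.{u + 1, u} (Sheaf J (Type u)) := by
  intro κ G
  let a := presheafToSheaf J (Type u)
  let r := sheafToPresheaf J (Type u)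
  let adj : a ⊣ r := sheafificationAdjunction J (Type u)
  let F : Discrete κ ⥤ Sheaf J (Type u) := Discrete.functor G
  let c : Cocone (F ⋙ r) := colimit.cocone (F ⋙ r)
  have hc : IsColimit c := colimit.isColimit _
  have huniv := presheaf_universal hc
  have h1 : IsUniversalColimit (a.mapCocone c) := huniv.map_reflective adj
  let β : F ≅ (F ⋙ r) ⋙ a :=
    (Functor.isoWhiskerLeft F (asIso adj.counit) ≪≫ F.rightUnitor).symm
  let d : Cofan G := (Cocone.precompose β.hom).obj (a.mapCocone c)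
  have hd : IsUniversalColimit d := IsUniversalColimit.precompose_isIso β.hom h1
  have hd' : IsColimit d := hd.isColimit
  have hinj : ∀ i, d.inj i = β.hom.app ⟨i⟩ ≫ a.map (c.ι.app ⟨i⟩) := fun _ => rfl
  have hev : ∀ (x : Cᵒᵖ) (i j : κ) (p : (G i).obj.obj x) (q : (G j).obj.obj x),
      (c.ι.app ⟨i⟩).app x p = (c.ι.app ⟨j⟩).app x q → i = j ∧ HEq p q := by
    intro x i j p q h
    let cx : Cofan fun k => (G k).obj.obj x :=
      Cofan.mk (c.pt.obj x) fun k => (c.ι.app ⟨k⟩).app x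
    have hcx : IsColimit cx := by
      have h0 := isColimitOfPreserves ((evaluation Cᵒᵖ (Type u)).obj x) hc
      refine mkCofanColimit cx
        (fun s => h0.desc ⟨s.pt, Discrete.natTrans fun ⟨k⟩ => s.inj k⟩)
        (fun s k => h0.fac ⟨s.pt, Discrete.natTrans fun ⟨k⟩ => s.inj k⟩ ⟨k⟩)
        (fun s m hm => h0.uniq ⟨s.pt, Discrete.natTrans fun ⟨k⟩ => s.inj k⟩ m fun ⟨k⟩ => hm k)
    exact Sigma.mk.inj_iff.1 (types_inj hcx h)
  have hmono : ∀ i, Mono (c.ι.app ⟨i⟩) := fun i => by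
    rw [NatTrans.mono_iff_mono_app]
    intro x
    rw [mono_iff_injective]
    exact fun p q h => eq_of_heq (hev x i i p q h).2
  have : ∀ i, Mono (d.inj i) := fun i => by
    have := hmono i
    rw [hinj]
    infer_instance
  have hsq : ∀ i j, IsPullback
      (a.map (pullback.fst (c.ι.app ⟨i⟩) (c.ι.app ⟨j⟩)) ≫ (β.app ⟨i⟩).inv)
      (a.map (pullback.snd (c.ι.app ⟨i⟩) (c.ι.app ⟨j⟩)) ≫ (β.app ⟨j⟩).inv) (d.inj i) (d.inj j) :=
    fun i j => ((IsPullback.of_hasPullback (c.ι.app ⟨i⟩) (c.ι.app ⟨j⟩)).map a).of_iso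
      (Iso.refl _) (β.app ⟨i⟩).symm (β.app ⟨j⟩).symm (Iso.refl _)
      (by simp) (by simp) (by simp [hinj]) (by simp [hinj])
  refine ⟨d, hd', CoproductDisjoint.of_cofan hd' (fun {i j} _ => (hsq i j).cone)
    (fun {i j} _ => (hsq i j).isLimit) (fun {i j} hij => ?_), hd⟩
  have he : ∀ x, IsEmpty ((pullback (c.ι.app ⟨i⟩) (c.ι.app ⟨j⟩)).obj x) := fun x =>
    ⟨fun z => hij (hev x i j _ _ congr($(NatTrans.congr_app (pullback.condition (f := c.ι.app ⟨i⟩) (g := c.ι.app ⟨j⟩)) x) z)).1⟩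
  have hI : IsInitial (pullback (c.ι.app ⟨i⟩) (c.ι.app ⟨j⟩)) :=
    IsInitial.ofUniqueHom (fun Z => ⟨fun x => ↾fun z => ((he x).false z).elim,
      fun x y f => by ext z; exact ((he x).false z).elim⟩) fun Z m => by
        ext x z; exact ((he x).false z).elim
  exact IsInitial.isInitialObj a _ hI

section rel

variable {J}
variable {R A : Sheaf J (Type u)}

/-- Points of a sheaf as maps from the sheafified representable. -/
noncomputable def ptEquiv (c : Cᵒᵖ) (X : Sheaf J (Type u)) :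
    ((presheafToSheaf J (Type u)).obj (yoneda.obj c.unop) ⟶ X) ≃ X.obj.obj c :=
  ((sheafificationAdjunction J (Type u)).homEquiv _ _).trans yonedaEquiv

theorem ptEquiv_comp (c : Cᵒᵖ) {X Y : Sheaf J (Type u)}
    (f : (presheafToSheaf J (Type u)).obj (yoneda.obj c.unop) ⟶ X) (g : X ⟶ Y) :
    ptEquiv c Y (f ≫ g) = g.hom.app c (ptEquiv c X f) := by
  simp only [ptEquiv, Equiv.trans_apply, Adjunction.homEquiv_naturality_right, yonedaEquiv_comp]
  rfl

variable (p₁ p₂ : R ⟶ A) (h : SGA4.IsEquivRel p₁ p₂)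

include h in
theorem rel_inj (c : Cᵒᵖ) (r r' : R.obj.obj c) (h1 : p₁.hom.app c r = p₁.hom.app c r')
    (h2 : p₂.hom.app c r = p₂.hom.app c r') : r = r' := by
  have hh := (h ((presheafToSheaf J (Type u)).obj (yoneda.obj c.unop))).1
    (a₁ := (ptEquiv c R).symm r) (a₂ := (ptEquiv c R).symm r')
    (Prod.ext ((ptEquiv c A).injective (by simpa [ptEquiv_comp] using h1))
      ((ptEquiv c A).injective (by simpa [ptEquiv_comp] using h2)))
  exact (ptEquiv c R).symm.injective hh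

include h in
theorem rel_equiv (c : Cᵒᵖ) :
    Equivalence fun x y => ∃ r, p₁.hom.app c r = x ∧ p₂.hom.app c r = y := by
  let e := ptEquiv (J := J) c A
  let eR := ptEquiv (J := J) c R
  have key : ∀ x y, (∃ r, p₁.hom.app c r = x ∧ p₂.hom.app c r = y) ↔
      ∃ f, f ≫ p₁ = e.symm x ∧ f ≫ p₂ = e.symm y := by
    intro x y
    constructor
    · rintro ⟨r, h1, h2⟩
      exact ⟨eR.symm r, e.eq_symm_apply.2 (by simpa [e, eR, ptEquiv_comp] using h1),
        e.eq_symm_apply.2 (by simpa [e, eR, ptEquiv_comp] using h2)⟩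
    · rintro ⟨f, h1, h2⟩
      exact ⟨eR f, by simpa [e, eR, ptEquiv_comp] using e.eq_symm_apply.1 h1,
        by simpa [e, eR, ptEquiv_comp] using e.eq_symm_apply.1 h2⟩
  have E := (h ((presheafToSheaf J (Type u)).obj (yoneda.obj c.unop))).2
  simp only [key]
  exact ⟨fun x => E.refl _, fun h => E.symm h, fun h h' => E.trans h h'⟩

/-- The pointwise quotient. -/
def quot : Cᵒᵖ ⥤ Type u where
  obj c := Quot fun x y => ∃ r, p₁.hom.app c r = x ∧ p₂.hom.app c r = y
  map {c d} f := ↾Quot.map (A.obj.map f) (by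
    rintro x y ⟨r, rfl, rfl⟩
    exact ⟨R.obj.map f r, NatTrans.naturality_apply p₁.hom f r, NatTrans.naturality_apply p₂.hom f r⟩)
  map_id c := by ext ⟨x⟩; exact congrArg (Quot.mk _) (by simp)
  map_comp f g := by ext ⟨x⟩; exact congrArg (Quot.mk _) (by simp)

/-- The quotient map. -/
def quotπ : A.obj ⟶ quot p₁ p₂ where
  app c := ↾(Quot.mk _)
  naturality c d f := rfl

include h in
theorem isPullback_quot : IsPullback p₁.hom p₂.hom (quotπ p₁ p₂) (quotπ p₁ p₂) := by
  have w : p₁.hom ≫ quotπ p₁ p₂ = p₂.hom ≫ quotπ p₁ p₂ := by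
    ext c r; exact Quot.sound ⟨r, rfl, rfl⟩
  refine ⟨⟨w⟩, ⟨evaluationJointlyReflectsLimits _ fun c =>
    (isLimitMapConePullbackConeEquiv _ _).symm (IsPullback.isLimit ?_)⟩⟩
  rw [Types.isPullback_iff]
  refine ⟨congrArg (fun g : R.obj ⟶ quot p₁ p₂ => g.app c) w,
    fun r r' hr => rel_inj p₁ p₂ h c r r' hr.1 hr.2, fun x y hxy => ?_⟩
  obtain ⟨r, h1, h2⟩ := (rel_equiv p₁ p₂ h c).eqvGen_iff.1 (Quot.eqvGen_exact hxy)
  exact ⟨r, h1, h2⟩

theorem isPushout_quot (h : SGA4.IsEquivRel p₁ p₂) :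
    IsPushout p₁.hom p₂.hom (quotπ p₁ p₂) (quotπ p₁ p₂) := by
  have w : p₁.hom ≫ quotπ p₁ p₂ = p₂.hom ≫ quotπ p₁ p₂ := by
    ext c r; exact Quot.sound ⟨r, rfl, rfl⟩
  have hst : ∀ {Z : Cᵒᵖ ⥤ Type u} (s t : A.obj ⟶ Z), p₁.hom ≫ s = p₂.hom ≫ t →
      ∀ c x, s.app c x = t.app c x := by
    intro Z s t hw c x
    obtain ⟨r, h1, h2⟩ := (rel_equiv p₁ p₂ h c).refl x
    have := congr($(congrArg (fun g : R.obj ⟶ Z => g.app c) hw) r)
    simpa [h1, h2] using this
  refine ⟨⟨w⟩, ⟨PushoutCocone.IsColimit.mk _ (fun s =>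
    { app := fun c => ↾Quot.lift (s.inl.app c) (by
        rintro x y ⟨r, rfl, rfl⟩
        have := congr($(congrArg (fun g : R.obj ⟶ s.pt => g.app c) s.condition) r)
        simpa [hst s.inl s.inr s.condition] using this)
      naturality := fun c d f => by ext ⟨x⟩; exact NatTrans.naturality_apply s.inl f x })
    (fun s => by ext c x; rfl)
    (fun s => by ext c x; exact hst s.inl s.inr s.condition c x)
    (fun s m h1 h2 => by ext c ⟨x⟩; exact congr($(congrArg (fun g : A.obj ⟶ s.pt => g.app c) h1) x))⟩⟩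

include h in
theorem isEffectiveUniversal : SGA4.IsEffectiveUniversalEquivRel p₁ p₂ := by
  let a := presheafToSheaf J (Type u)
  let eR := asIso ((sheafificationAdjunction J (Type u)).counit.app R)
  let eA := asIso ((sheafificationAdjunction J (Type u)).counit.app A)
  let π : A ⟶ a.obj (quot p₁ p₂) := eA.inv ≫ a.map (quotπ p₁ p₂)
  have n : ∀ p : R ⟶ A, a.map p.hom ≫ eA.hom = eR.hom ≫ p := fun p =>
    (sheafificationAdjunction J (Type u)).counit.naturality p
  refine ⟨_, π, ((isPullback_quot p₁ p₂ h).map a).of_iso eR eA eA (Iso.refl _) (n p₁) (n p₂)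
      (by simp [π]) (by simp [π]),
    ((isPushout_quot p₁ p₂ h).map a).of_iso eR eA eA (Iso.refl _) (n p₁) (n p₂)
      (by simp [π]) (by simp [π]), fun B' g => ?_⟩
  have : Epi (quotπ p₁ p₂) := by
    rw [NatTrans.epi_iff_epi_app]
    intro c
    rw [epi_iff_surjective]
    exact Quot.mk_surjective
  have hπ : Epi π := inferInstance
  have h1 : Sheaf.IsLocallySurjective π := (Sheaf.isLocallySurjective_iff_epi' (A := Type u) π).2 hπ
  have h2 : Sheaf.IsLocallySurjective (pullback.snd π g) := by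
    refine ⟨fun {U} s => J.superset_covering ?_
      (Presheaf.imageSieve_mem J π.hom (U := op U) (g.hom.app (op U) s))⟩
    rintro V i ⟨t, ht⟩
    obtain ⟨z, -, hz⟩ := ((Types.isPullback_iff _ _ _ _).1 ((IsPullback.of_hasPullback π g).map
      (sheafToPresheaf J (Type u) ⋙ (evaluation _ _).obj (op V)))).2.2 t (B'.obj.map i.op s)
      (ht.trans (NatTrans.naturality_apply g.hom i.op s).symm)
    exact ⟨z, hz⟩
  have : Epi (pullback.snd π g) := (Sheaf.isLocallySurjective_iff_epi' (A := Type u) _).1 h2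
  have := IsRegularEpiCategory.regularEpiOfEpi (pullback.snd π g)
  infer_instance

end rel

theorem sheaf_axioms :
    SGA4.HasDisjointUniversalCoproducts.{u + 1, u} (Sheaf J (Type u)) ∧
    ∀ (R A : Sheaf J (Type u)) (p₁ p₂ : R ⟶ A), SGA4.IsEquivRel p₁ p₂ →
      SGA4.IsEffectiveUniversalEquivRel p₁ p₂ :=
  ⟨sheaf_hasDisjointUniversalCoproducts J, fun _ _ p₁ p₂ h => isEffectiveUniversal p₁ p₂ h⟩

end Groth.Agent.Lib.Giraud
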