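import Groth.Prelude.Def_SGA4a
import Mathlib.CategoryTheory.EffectiveEpi.Comp

/-!
# Image factorisation and covering families under Giraud's axioms
-/

set_option autoImplicit false

universe w v u

open CategoryTheory CategoryTheory.Limits Opposite

namespace Groth.Agent.Lib.Giraud

variable {E : Type v} [Category.{u} E] [HasFiniteLimits E]

theorem isEquivRel_kernelPair {A X : E} (f : A ⟶ X) :
    SGA4.IsEquivRel (pullback.fst f f) (pullback.snd f f) := by
  intro T
  refine ⟨fun a b h => pullback.hom_ext (congrArg Prod.fst h) (congrArg Prod.snd h), ?_⟩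
  have key : ∀ a b : T ⟶ A, (∃ r, r ≫ pullback.fst f f = a ∧ r ≫ pullback.snd f f = b) ↔ a ≫ f = b ≫ f :=
    fun a b => ⟨by rintro ⟨r, rfl, rfl⟩; simp [pullback.condition],
      fun h => ⟨pullback.lift a b h, pullback.lift_fst _ _ _, pullback.lift_snd _ _ _⟩⟩
  simp only [key]
  exact ⟨fun _ => rfl, fun h => h.symm, fun h h' => h.trans h'⟩

variable (hc : ∀ (R A : E) (p₁ p₂ : R ⟶ A), SGA4.IsEquivRel p₁ p₂ →
  SGA4.IsEffectiveUniversalEquivRel p₁ p₂)

include hc in
/-- Every morphism is a universal effective epimorphism followed by a monomorphism. -/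
theorem exists_factor {A X : E} (f : A ⟶ X) :
    ∃ (B : E) (π : A ⟶ B) (m : B ⟶ X), π ≫ m = f ∧ Mono m ∧
      IsPushout (pullback.fst f f) (pullback.snd f f) π π ∧
      ∀ (B' : E) (g : B' ⟶ B), EffectiveEpi (pullback.snd π g) := by
  obtain ⟨B, π, hpb, hpo, heff⟩ := hc _ _ _ _ (isEquivRel_kernelPair f)
  refine ⟨B, π, hpo.desc f f pullback.condition, hpo.inl_desc _ _ _, ⟨?_⟩, hpo, heff⟩
  intro T a b hab
  have := heff T a
  have := heff (pullback π a) (pullback.snd π a ≫ b)
  rw [← cancel_epi (pullback.snd π a), ← cancel_epi (pullback.snd π (pullback.snd π a ≫ b))]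
  let α := pullback.snd π (pullback.snd π a ≫ b) ≫ pullback.fst π a
  let β := pullback.fst π (pullback.snd π a ≫ b)
  have hα : α ≫ π = pullback.snd π (pullback.snd π a ≫ b) ≫ pullback.snd π a ≫ a := by
    simp [α, pullback.condition]
  have hβ : β ≫ π = pullback.snd π (pullback.snd π a ≫ b) ≫ pullback.snd π a ≫ b :=
    pullback.condition
  have hf : α ≫ f = β ≫ f := by
    rw [← hpo.inl_desc f f pullback.condition, reassoc_of% hα, reassoc_of% hβ, hab]
  have := congrArg (pullback.lift α β hf ≫ ·) hpo.w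
  simp only [pullback.lift_fst_assoc, pullback.lift_snd_assoc] at this
  rw [← hα, ← hβ, this]

/-- A map factoring through a mono, after an effective epimorphism, makes the mono invertible. -/
theorem isIso_of_effectiveEpi_fac {P Y B : E} (q : P ⟶ Y) [EffectiveEpi q] (u : P ⟶ B) (m : B ⟶ Y)
    [Mono m] (h : u ≫ m = q) : IsIso m := by
  let s := EffectiveEpi.desc q u fun g₁ g₂ hg => by
    rw [← cancel_mono m, Category.assoc, Category.assoc, h, hg]
  have hs : q ≫ s = u := EffectiveEpi.fac q u _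
  have h1 : s ≫ m = 𝟙 Y := by rw [← cancel_epi q, reassoc_of% hs, h, Category.comp_id]
  exact ⟨s, by rw [← cancel_mono m, Category.assoc, h1, Category.id_comp, Category.comp_id], h1⟩

/-- A family is covering when it factors through no proper subobject. -/
def IsCov {X : E} {κ : Type w} {G : κ → E} (g : ∀ k, G k ⟶ X) : Prop :=
  ∀ ⦃B : E⦄ (m : B ⟶ X) [Mono m], (∀ k, ∃ a, a ≫ m = g k) → IsIso m

theorem IsCov.hom_ext {X Z : E} {κ : Type w} {G : κ → E} {g : ∀ k, G k ⟶ X} (hg : IsCov g)
    (a b : X ⟶ Z) (h : ∀ k, g k ≫ a = g k ≫ b) : a = b := by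
  have := hg (equalizer.ι a b) fun k => ⟨equalizer.lift (g k) (h k), equalizer.lift_ι _ _⟩
  exact eq_of_epi_equalizer

variable {ι : Type u} (gen : ι → E)
  (hgen : ∀ ⦃X Y : E⦄ (f : X ⟶ Y), (∀ i (h : gen i ⟶ Y), ∃! h' : gen i ⟶ X, h' ≫ f = h) → IsIso f)

include hgen in
theorem factor_of_gen {W B X : E} (f : W ⟶ X) (m : B ⟶ X) [Mono m]
    (h : ∀ i (x : gen i ⟶ W), ∃ a, a ≫ m = x ≫ f) : ∃ a, a ≫ m = f := by
  have : IsIso (pullback.fst f m) := hgen _ fun i x => by
    obtain ⟨a, ha⟩ := h i x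
    exact ⟨pullback.lift x a ha.symm, pullback.lift_fst _ _ _,
      fun y hy => (cancel_mono (pullback.fst f m)).1 (hy.trans (pullback.lift_fst _ _ _).symm)⟩
  exact ⟨inv (pullback.fst f m) ≫ pullback.snd f m, by simp [← pullback.condition]⟩

include hgen in
theorem gen_ext {X Y : E} (a b : X ⟶ Y) (h : ∀ i (x : gen i ⟶ X), x ≫ a = x ≫ b) : a = b := by
  have : IsIso (equalizer.ι a b) := hgen _ fun i x =>
    ⟨equalizer.lift x (h i x), equalizer.lift_ι _ _, fun y hy =>
      (cancel_mono (equalizer.ι a b)).1 (hy.trans (equalizer.lift_ι _ _).symm)⟩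
  exact eq_of_epi_equalizer

variable (hb : SGA4.HasDisjointUniversalCoproducts.{v, u} E)

/-- The chosen coproduct. -/
noncomputable def cop {κ : Type u} (G : κ → E) : Cofan G := (hb κ G).choose

theorem cop_spec {κ : Type u} (G : κ → E) :
    CoproductDisjoint G ∧ IsUniversalColimit (cop hb G) :=
  (hb κ G).choose_spec.choose_spec

/-- It is a colimit. -/
noncomputable def copIsColimit {κ : Type u} (G : κ → E) : IsColimit (cop hb G) :=
  (hb κ G).choose_spec.choose

/-- The pieces of a map into a coproduct form a colimit. -/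
theorem isColimit_pieces {κ : Type u} {G : κ → E} {W : E} (α : W ⟶ (cop hb G).pt) :
    Nonempty (IsColimit (Cofan.mk W fun k => pullback.fst α ((cop hb G).inj k))) := by
  refine (cop_spec hb G).2 (F' := Discrete.functor fun k => pullback α ((cop hb G).inj k))
    (Cofan.mk W fun k => pullback.fst α ((cop hb G).inj k))
    (Discrete.natTrans fun ⟨k⟩ => pullback.snd α ((cop hb G).inj k)) α ?_
    (NatTrans.Equifibered.of_discrete _) ?_
  · ext ⟨k⟩
    exact pullback.condition.symm
  · rintro ⟨k⟩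
    exact IsPullback.of_hasPullback α ((cop hb G).inj k)

include hgen in
theorem ext_of_pieces {κ : Type u} {G : κ → E} {W Z : E} (α : W ⟶ (cop hb G).pt) (a b : W ⟶ Z)
    (h : ∀ i (x : gen i ⟶ W) (k : κ) (t : gen i ⟶ G k), x ≫ α = t ≫ (cop hb G).inj k →
      x ≫ a = x ≫ b) : a = b := by
  refine Cofan.IsColimit.hom_ext (isColimit_pieces hb α).some _ _ fun k => gen_ext gen hgen _ _
    fun i x => ?_
  show x ≫ pullback.fst α ((cop hb G).inj k) ≫ a = x ≫ pullback.fst α ((cop hb G).inj k) ≫ b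
  simpa only [Category.assoc] using h i (x ≫ pullback.fst _ _) k (x ≫ pullback.snd _ _)
    (by simp only [Category.assoc, pullback.condition])

include hgen in
/-- A mono through which all pieces factor. -/
theorem factor_of_pieces {κ : Type u} {G : κ → E} {W B X : E} (α : W ⟶ (cop hb G).pt) (f : W ⟶ X)
    (m : B ⟶ X) [Mono m]
    (h : ∀ i (x : gen i ⟶ W) (k : κ) (t : gen i ⟶ G k), x ≫ α = t ≫ (cop hb G).inj k →
      ∃ a, a ≫ m = x ≫ f) : ∃ a, a ≫ m = f := by
  have h' : ∀ k, ∃ a, a ≫ m = pullback.fst α ((cop hb G).inj k) ≫ f := fun k =>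
    factor_of_gen gen hgen _ _ fun i x => by
      obtain ⟨a, ha⟩ := h i (x ≫ pullback.fst _ _) k (x ≫ pullback.snd _ _)
        (by simp only [Category.assoc, pullback.condition])
      exact ⟨a, ha.trans (Category.assoc _ _ _)⟩
  choose a ha using h'
  refine ⟨Cofan.IsColimit.desc (isColimit_pieces hb α).some a,
    Cofan.IsColimit.hom_ext (isColimit_pieces hb α).some _ _ fun k => ?_⟩
  rw [Cofan.IsColimit.fac_assoc]
  exact ha k

include hgen in
theorem IsCov.of_all (X : E) : IsCov fun p : Σ i, (gen i ⟶ X) => p.2 := by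
  intro B m _ h
  obtain ⟨a, ha⟩ := factor_of_gen gen hgen (𝟙 X) m fun i x => by simpa using h ⟨i, x⟩
  exact ⟨a, by rw [← cancel_mono m, Category.assoc, ha, Category.comp_id, Category.id_comp], ha⟩

/-- The sum of a family. -/
noncomputable abbrev sumMap {X : E} {κ : Type u} {G : κ → E} (g : ∀ k, G k ⟶ X) :
    (cop hb G).pt ⟶ X :=
  Cofan.IsColimit.desc (copIsColimit hb G) g

include hc in
theorem IsCov.isPushout {X : E} {κ : Type u} {G : κ → E} {g : ∀ k, G k ⟶ X} (hg : IsCov g) :
    IsPushout (pullback.fst (sumMap hb g) (sumMap hb g)) (pullback.snd (sumMap hb g) (sumMap hb g))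
      (sumMap hb g) (sumMap hb g) ∧
    ∀ (B' : E) (f : B' ⟶ X), EffectiveEpi (pullback.snd (sumMap hb g) f) := by
  obtain ⟨B, π, m, hm, _, hpo, heff⟩ := exists_factor hc (sumMap hb g)
  have : IsIso m := hg m fun k => ⟨(cop hb G).inj k ≫ π, by
    rw [Category.assoc, hm]
    exact Cofan.IsColimit.fac (copIsColimit hb G) g k⟩
  constructor
  · exact hpo.of_iso (Iso.refl _) (Iso.refl _) (Iso.refl _) (asIso m) (by simp) (by simp)
      (by simp [hm]) (by simp [hm])
  · intro B' f
    have := heff B' (f ≫ inv m)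
    have H : IsPullback (pullback.fst (sumMap hb g) f) (pullback.snd (sumMap hb g) f) π (f ≫ inv m) :=
      (IsPullback.of_hasPullback (sumMap hb g) f).of_iso (Iso.refl _) (Iso.refl _) (Iso.refl _)
        (asIso m).symm (by simp) (by simp) (by simp [← hm]) (by simp)
    rw [← H.isoPullback_hom_snd]
    infer_instance

include hc hgen hb in
/-- Descent along a covering family. -/
theorem IsCov.exists_desc {X Z : E} {κ : Type u} {G : κ → E} {g : ∀ k, G k ⟶ X} (hg : IsCov g)
    (t : ∀ k, G k ⟶ Z)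
    (ht : ∀ i k l (a : gen i ⟶ G k) (b : gen i ⟶ G l), a ≫ g k = b ≫ g l → a ≫ t k = b ≫ t l) :
    ∃ T : X ⟶ Z, ∀ k, g k ≫ T = t k := by
  let q := sumMap hb g
  let τ := sumMap hb t
  have hτ : pullback.fst q q ≫ τ = pullback.snd q q ≫ τ := by
    refine ext_of_pieces gen hgen hb (pullback.fst q q) _ _ fun i x k a ha => ?_
    refine ext_of_pieces gen hgen hb (x ≫ pullback.snd q q) _ _ fun j y l b hb' => ?_
    have h1 : (y ≫ a) ≫ g k = b ≫ g l := by
      rw [← Cofan.IsColimit.fac (copIsColimit hb G) g k, ← Cofan.IsColimit.fac (copIsColimit hb G) g l,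
        Category.assoc, ← reassoc_of% ha, ← reassoc_of% hb', pullback.condition]
    rw [reassoc_of% ha, Cofan.IsColimit.fac, reassoc_of% hb', Cofan.IsColimit.fac, ← Category.assoc]
    exact ht j k l _ _ h1
  refine ⟨((hg.isPushout hc hb).1).desc τ τ hτ, fun k => ?_⟩
  rw [← Cofan.IsColimit.fac (copIsColimit hb G) g k, Category.assoc, IsPushout.inl_desc]
  exact Cofan.IsColimit.fac (copIsColimit hb G) t k

include hc hgen hb in
/-- Covering families are stable under base change. -/
theorem IsCov.pullback {X Y : E} {κ : Type u} {G : κ → E} {g : ∀ k, G k ⟶ X} (hg : IsCov g)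
    (f : Y ⟶ X) {B : E} (m : B ⟶ Y) [Mono m]
    (hm : ∀ i (x : gen i ⟶ Y) (k : κ) (a : gen i ⟶ G k), a ≫ g k = x ≫ f → ∃ b, b ≫ m = x) :
    IsIso m := by
  have := (hg.isPushout hc hb).2 Y f
  obtain ⟨u, hu⟩ := factor_of_pieces gen hgen hb (pullback.fst (sumMap hb g) f)
    (pullback.snd (sumMap hb g) f) m fun i x k a ha => hm i _ k a (by
      rw [← Cofan.IsColimit.fac (copIsColimit hb G) g k, ← reassoc_of% ha, pullback.condition,
        Category.assoc])
  exact isIso_of_effectiveEpi_fac _ u m hu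

include hb in
/-- Initial objects are strict. -/
theorem isInitial_of_hom {T I : E} (hI : IsInitial I) (a : T ⟶ I) : Nonempty (IsInitial T) := by
  let G : PEmpty.{u + 1} → E := fun x => x.elim
  let a' : T ⟶ (cop hb G).pt := a ≫ hI.to _
  have h := (isColimit_pieces hb a').some
  exact ⟨IsInitial.ofUniqueHom (fun Z => Cofan.IsColimit.desc h fun k => k.elim)
    fun Z m => Cofan.IsColimit.hom_ext h _ _ fun k => k.elim⟩

end Groth.Agent.Lib.Giraud
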