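import Mathlib

/-!
# Sheaves of sets on a small site form a locally presentable category, at every large enough cardinal
-/

set_option autoImplicit false

universe u v w

open CategoryTheory CategoryTheory.Limits Opposite

namespace Groth.Agent.Lib.Giraud

theorem exists_regular_forall_le {α : Type u} (κ : α → Cardinal.{u}) :
    ∃ κ' : Cardinal.{u}, κ'.IsRegular ∧ ∀ a, κ a ≤ κ' := by
  obtain ⟨κ', h₁, h₂⟩ := HasCardinalLT.exists_regular_cardinal_forall.{u} (fun a => (κ a).ord.ToType)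
  refine ⟨κ', h₁, fun a => le_of_lt ?_⟩
  simpa [hasCardinalLT_iff_cardinal_mk_lt] using h₂ a

theorem exists_common_bound {D : Type v} [Category.{u} D] {α : Type u} (X : α → D)
    [∀ a, IsPresentable.{u} (X a)] :
    ∃ κ : Cardinal.{u}, κ.IsRegular ∧ ∀ (κ' : Cardinal.{u}) [Fact κ'.IsRegular], κ ≤ κ' →
      ∀ a, IsCardinalPresentable (X a) κ' := by
  have h : ∀ a, ∃ κ : Cardinal.{u}, ∃ _ : Fact κ.IsRegular, IsCardinalPresentable (X a) κ := fun a =>
    Functor.IsAccessible.exists_cardinal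
  choose κ hκ hX using h
  obtain ⟨κ', h₁, h₂⟩ := exists_regular_forall_le κ
  refine ⟨κ', h₁, fun κ'' _ hle a => ?_⟩
  have := hκ a
  have := hX a
  exact isCardinalPresentable_of_le (X a) ((h₂ a).trans hle)

theorem isCardinalLocallyPresentable_of_le {D : Type v} [Category.{u} D] {κ : Cardinal.{u}}
    [Fact κ.IsRegular] [IsCardinalLocallyPresentable D κ] {κ' : Cardinal.{u}} [Fact κ'.IsRegular]
    (h : κ ≤ κ') : IsCardinalLocallyPresentable D κ' := by
  obtain ⟨P, hP, h1, h2⟩ := (IsCardinalLocallyPresentable.iff_exists_isStrongGenerator D κ).1 inferInstance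
  exact (IsCardinalLocallyPresentable.iff_exists_isStrongGenerator D κ').2
    ⟨P, hP, h1, h2.trans (isCardinalPresentable_monotone D h)⟩

/-- Sheaves are locally presentable for all large regular cardinals. -/
theorem sheaf_locallyPresentable {C : Type u} [SmallCategory C] (J : GrothendieckTopology C) :
    ∃ κ : Cardinal.{u}, κ.IsRegular ∧ ∀ (κ' : Cardinal.{u}) [Fact κ'.IsRegular], κ ≤ κ' →
      IsCardinalLocallyPresentable (Sheaf J (Type u)) κ' := by
  let α := Σ X : C, {S : Sieve X // S ∈ J X}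
  let f : ∀ p : α, p.2.1.functor ⟶ yoneda.obj p.1 := fun p => p.2.1.functorInclusion
  let W : MorphismProperty (Cᵒᵖ ⥤ Type u) := MorphismProperty.ofHoms f
  obtain ⟨κ₀, _, hκ₀⟩ := IsLocallyPresentable.exists_cardinal.{u} (Cᵒᵖ ⥤ Type u)
  have : IsAccessibleCategory.{u} (Cᵒᵖ ⥤ Type u) := inferInstance
  obtain ⟨κ₁, h₁, hp⟩ := exists_common_bound
    (Sum.elim (fun p : α => p.2.1.functor) (fun X : C => yoneda.obj X))
  obtain ⟨κ, hκ, hle⟩ := exists_regular_forall_le
    (Sum.elim (fun _ : PUnit.{u + 1} => κ₀) (fun _ : PUnit.{u + 1} => κ₁))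
  refine ⟨κ, hκ, fun κ' _ h => ?_⟩
  have : IsCardinalLocallyPresentable (Cᵒᵖ ⥤ Type u) κ' :=
    isCardinalLocallyPresentable_of_le (κ := κ₀) ((hle (Sum.inl PUnit.unit)).trans h)
  have hW : ∀ ⦃X Y : Cᵒᵖ ⥤ Type u⦄ (g : X ⟶ Y), W g →
      IsCardinalPresentable X κ' ∧ IsCardinalPresentable Y κ' := by
    rintro _ _ _ ⟨p⟩
    exact ⟨hp κ' ((hle (Sum.inr PUnit.unit)).trans h) (Sum.inl p),
      hp κ' ((hle (Sum.inr PUnit.unit)).trans h) (Sum.inr p.1)⟩
  have := W.isLocallyPresentable_isLocal κ' hW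
  have key : ∀ F : Cᵒᵖ ⥤ Type u, W.isLocal F ↔ Presheaf.IsSheaf J F := by
    intro F
    rw [isSheaf_iff_isSheaf_of_type]
    constructor
    · intro hF X S hS
      rw [Presieve.isSheafFor_iff_yonedaSheafCondition]
      exact fun φ => (hF _ ⟨(⟨X, S, hS⟩ : α)⟩).existsUnique φ
    · rintro hF _ _ _ ⟨p⟩
      have := Presieve.isSheafFor_iff_yonedaSheafCondition.1 (hF p.2.1 p.2.2)
      exact (Function.bijective_iff_existsUnique _).2 this
  let e : W.isLocal.FullSubcategory ≌ Sheaf J (Type u) :=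
    CategoryTheory.Equivalence.mk
      { obj := fun F => ⟨F.obj, (key _).1 F.property⟩, map := fun g => ⟨g.hom⟩ }
      { obj := fun F => ⟨F.obj, (key _).2 F.property⟩, map := fun g => ⟨g.hom⟩ }
      (Iso.refl _) (Iso.refl _)
  exact e.isCardinalLocallyPresentable κ'

end Groth.Agent.Lib.Giraud
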