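import Groth.Agent.Lib.Giraud.Cover
import Mathlib.CategoryTheory.Sites.SheafOfTypes
import Mathlib.CategoryTheory.Limits.Shapes.BinaryProducts

/-!
# Giraud's theorem
-/

set_option autoImplicit false

universe w v u

open CategoryTheory CategoryTheory.Limits Opposite

namespace Groth.Agent.Lib.Giraud

variable {E : Type v} [Category.{u} E] [HasFiniteLimits E]
  {hb : SGA4.HasDisjointUniversalCoproducts.{v, u} E}
  {hc : ∀ (R A : E) (p₁ p₂ : R ⟶ A), SGA4.IsEquivRel p₁ p₂ →
    SGA4.IsEffectiveUniversalEquivRel p₁ p₂}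
  {ι : Type u} {gen : ι → E}
  {hgen : ∀ ⦃X Y : E⦄ (f : X ⟶ Y),
    (∀ i (h : gen i ⟶ Y), ∃! h' : gen i ⟶ X, h' ≫ f = h) → IsIso f}

variable (gen) in
/-- The full subcategory on the generators. -/
abbrev Gen := InducedCategory E gen

/-- A sieve is covering if it factors through no proper subobject. -/
def SCov {i : Gen gen} (S : Sieve i) : Prop :=
  IsCov.{u} fun p : Σ j : Gen gen, {g : j ⟶ i // S g} => p.2.1.hom

variable (hb hc hgen) in
/-- The topology on the generators. -/
def top : GrothendieckTopology (Gen gen) where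
  sieves _ := {S | SCov S}
  top_mem' i := by
    intro B m _ h
    obtain ⟨a, ha⟩ := h ⟨i, 𝟙 i, trivial⟩
    change a ≫ m = 𝟙 _ at ha
    exact ⟨a, by rw [← cancel_mono m, Category.assoc, ha, Category.comp_id, Category.id_comp], ha⟩
  pullback_stable' := fun {i j S} f hS B m _ h => by
    refine IsCov.pullback hc gen hgen hb hS f.hom m fun l x k a ha => ?_
    refine h ⟨l, ⟨InducedCategory.homMk (X := (show Gen gen from l)) x, ?_⟩⟩
    show S ((InducedCategory.homMk x : (show Gen gen from l) ⟶ j) ≫ f)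
    have e : (InducedCategory.homMk x : (show Gen gen from l) ⟶ j) ≫ f =
        (InducedCategory.homMk a : (show Gen gen from l) ⟶ k.1) ≫ k.2.1 := InducedCategory.hom_ext ha.symm
    rw [e]
    exact S.downward_closed k.2.2 _
  transitive' := fun {i S} hS R hR B m _ h => by
    refine hS m fun ⟨j, g, hg⟩ => ?_
    have hiso : IsIso (pullback.fst g.hom m) := hR hg _ fun ⟨l, x, hx⟩ => by
      obtain ⟨b, hb'⟩ := h ⟨l, x ≫ g, hx⟩
      exact ⟨pullback.lift x.hom b hb'.symm, pullback.lift_fst _ _ _⟩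
    exact ⟨inv (pullback.fst g.hom m) ≫ pullback.snd g.hom m, by
      rw [Category.assoc, ← pullback.condition, IsIso.inv_hom_id_assoc]⟩

theorem mem_top {i : Gen gen} {S : Sieve i} : S ∈ top hb hc hgen i ↔ SCov S := Iff.rfl

variable (gen) in
/-- The restricted Yoneda presheaf. -/
noncomputable abbrev res (X : E) : (Gen gen)ᵒᵖ ⥤ Type u :=
  (inducedFunctor gen).op ⋙ yoneda.obj X

theorem isSheaf_res (X : E) : Presieve.IsSheaf (top hb hc hgen) (res gen X) := by
  intro i S hS x hx
  obtain ⟨T, hT⟩ := IsCov.exists_desc hc gen hgen hb hS (Z := X) (fun p => x p.2.1 p.2.2)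
    fun l k k' a b h => by
      exact hx (InducedCategory.homMk a : (show Gen gen from l) ⟶ k.1)
        (InducedCategory.homMk b : (show Gen gen from l) ⟶ k'.1) k.2.2 k'.2.2 (InducedCategory.hom_ext h)
  exact ⟨T, fun j g hg => hT ⟨j, g, hg⟩,
    fun T' hT' => hS.hom_ext T' T fun p => (hT' _ p.2.2).trans (hT p).symm⟩

variable (hb hc hgen) in
/-- The comparison functor. -/
noncomputable def toSh : E ⥤ Sheaf (top hb hc hgen) (Type u) where
  obj X := ⟨res gen X, (isSheaf_iff_isSheaf_of_type _ _).2 (isSheaf_res X)⟩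
  map f := ⟨Functor.whiskerLeft _ (yoneda.map f)⟩

include hb hc hgen in
theorem full_toSh : (toSh hb hc hgen).Full where
  map_surjective {X Y} η := by
    have nat : ∀ i j (a : gen j ⟶ gen i) (x : gen i ⟶ X),
        η.hom.app (op j) (a ≫ x) = a ≫ η.hom.app (op i) x := fun i j a x =>
      NatTrans.naturality_apply η.hom (InducedCategory.homMk a : (show Gen gen from j) ⟶ i).op x
    obtain ⟨T, hT⟩ := IsCov.exists_desc hc gen hgen hb (IsCov.of_all gen hgen X)
      (fun p => η.hom.app (op p.1) p.2) fun i k l a b h => by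
        rw [← nat, ← nat]
        exact congrArg _ h
    refine ⟨T, ?_⟩
    apply InducedCategory.hom_ext; ext i x
    exact hT ⟨i.unop, x⟩

include hgen in
theorem faithful_toSh : (toSh hb hc hgen).Faithful where
  map_injective {X Y} a b h := gen_ext gen hgen a b fun i x =>
    congrArg (fun η : (toSh hb hc hgen).obj X ⟶ (toSh hb hc hgen).obj Y => η.hom.app (op i) x) h

variable (gen) in
/-- The sieve of the maps which lift along `π`. -/
def liftSieve {A B : E} (π : A ⟶ B) {i : Gen gen} (b : gen i ⟶ B) : Sieve i where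
  arrows j g := ∃ w : gen j ⟶ A, g.hom ≫ b = w ≫ π
  downward_closed := by
    rintro j l g ⟨w, hw⟩ h
    exact ⟨h.hom ≫ w, by
      show (h.hom ≫ g.hom) ≫ b = _
      rw [Category.assoc, hw, Category.assoc]⟩

variable (hb gen) in
/-- The sieve of the maps which land in one summand. -/
def pieceSieve {κ : Type u} (G : κ → E) {i : Gen gen} (h : gen i ⟶ (cop hb G).pt) : Sieve i where
  arrows j g := ∃ (k : κ) (a : gen j ⟶ G k), g.hom ≫ h = a ≫ (cop hb G).inj k
  downward_closed := by
    rintro j l g ⟨k, a, ha⟩ f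
    exact ⟨k, f.hom ≫ a, by
      show (f.hom ≫ g.hom) ≫ h = _
      rw [Category.assoc, ha, Category.assoc]⟩

theorem liftSieve_mem {A B : E} (π : A ⟶ B)
    (hπ : ∀ (B' : E) (g : B' ⟶ B), EffectiveEpi (pullback.snd π g)) {i : Gen gen} (b : gen i ⟶ B) :
    liftSieve gen π b ∈ top hb hc hgen i := by
  intro C m _ h
  have := hπ _ b
  obtain ⟨u, hu⟩ := factor_of_gen gen hgen (pullback.snd π b) m fun l x =>
    h ⟨l, ⟨InducedCategory.homMk (x ≫ pullback.snd π b), x ≫ pullback.fst π b, by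
      show (x ≫ pullback.snd π b) ≫ b = _
      simp [pullback.condition]⟩⟩
  exact isIso_of_effectiveEpi_fac _ u m hu

theorem pieceSieve_mem {κ : Type u} (G : κ → E) {i : Gen gen} (h : gen i ⟶ (cop hb G).pt) :
    pieceSieve hb gen G h ∈ top hb hc hgen i := by
  intro C m _ hm
  obtain ⟨u, hu⟩ := factor_of_pieces gen hgen hb h (𝟙 _) m fun l x k a ha => by
    obtain ⟨b, hb'⟩ := hm ⟨l, ⟨InducedCategory.homMk x, k, a, ha⟩⟩
    exact ⟨b, hb'.trans (Category.comp_id x).symm⟩
  exact ⟨u, by rw [← cancel_mono m, Category.assoc, hu, Category.comp_id, Category.id_comp], hu⟩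

section obj

variable (F : Sheaf (top hb hc hgen) (Type u))

theorem F_sheaf : Presieve.IsSheaf (top hb hc hgen) F.obj :=
  (isSheaf_iff_isSheaf_of_type _ _).1 F.property

theorem F_ext {i : Gen gen} {S : Sieve i} (hS : S ∈ top hb hc hgen i) (a b : F.obj.obj (op i))
    (h : ∀ j (g : j ⟶ i), S g → F.obj.map g.op a = F.obj.map g.op b) : a = b :=
  ((F_sheaf F).isSeparated _ hS).ext fun j g hg => h j g hg

/-- The index of the big coproduct. -/
abbrev Ix : Type u := Σ i : Gen gen, F.obj.obj (op i)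

/-- The big coproduct. -/
noncomputable abbrev big : E := (cop hb fun k : Ix F => gen k.1).pt

/-- `h` has value `v` if `v` restricts correctly on each piece. -/
def IsVal {i : Gen gen} (h : gen i ⟶ big F) (v : F.obj.obj (op i)) : Prop :=
  ∀ (j : Gen gen) (g : j ⟶ i) (k : Ix F) (a : j ⟶ k.1),
    g.hom ≫ h = a.hom ≫ (cop hb fun k : Ix F => gen k.1).inj k →
      F.obj.map g.op v = F.obj.map a.op k.2

theorem piece_unique {j : Gen gen} (k l : Ix F) (a : j ⟶ k.1) (b : j ⟶ l.1)
    (h : a.hom ≫ (cop hb fun k : Ix F => gen k.1).inj k =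
      b.hom ≫ (cop hb fun k : Ix F => gen k.1).inj l) :
    F.obj.map a.op k.2 = F.obj.map b.op l.2 := by
  by_cases hkl : k = l
  · subst hkl
    have := (cop_spec hb fun k : Ix F => gen k.1).1.mono_inj (copIsColimit hb _) k
    rw [InducedCategory.hom_ext ((cancel_mono ((cop hb fun k : Ix F => gen k.1).inj k)).1 h)]
  · obtain ⟨hI⟩ := (cop_spec hb fun k : Ix F => gen k.1).1.nonempty_isInitial_of_ne
      (copIsColimit hb _) hkl (pullback.cone _ _)
      (pullback.isLimit _ _)
    obtain ⟨hj⟩ := isInitial_of_hom hb hI (pullback.lift a.hom b.hom h)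
    have hbot : (⊥ : Sieve j) ∈ top hb hc hgen j := fun B m _ _ =>
      ⟨hj.to B, by rw [← cancel_mono m, Category.assoc, hj.hom_ext (hj.to B ≫ m) (𝟙 _),
        Category.comp_id, Category.id_comp], hj.hom_ext _ _⟩
    exact F_ext F hbot _ _ fun _ _ hg => hg.elim

theorem existsUnique_val {i : Gen gen} (h : gen i ⟶ big F) : ∃! v, IsVal F h v := by
  classical
  let S := pieceSieve hb gen (fun k : Ix F => gen k.1) h
  have hS : S ∈ top hb hc hgen i := pieceSieve_mem _ h
  let x : Presieve.FamilyOfElements F.obj S.arrows := fun j g hg =>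
    F.obj.map (InducedCategory.homMk hg.choose_spec.choose : j ⟶ hg.choose.1).op hg.choose.2
  have hx : ∀ {j : Gen gen} {g : j ⟶ i} (hg : S g) (k : Ix F) (a : j ⟶ k.1),
      g.hom ≫ h = a.hom ≫ (cop hb fun k : Ix F => gen k.1).inj k →
        x g hg = F.obj.map a.op k.2 := fun {j g} hg k a ha =>
    piece_unique F _ _ _ _ (hg.choose_spec.choose_spec.symm.trans ha)
  have hcomp : x.Compatible := by
    intro Y₁ Y₂ Z g₁ g₂ f₁ f₂ h₁ h₂ heq
    obtain ⟨k₁, a₁, e₁⟩ := h₁
    obtain ⟨k₂, a₂, e₂⟩ := h₂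
    rw [hx _ k₁ (InducedCategory.homMk a₁) e₁, hx _ k₂ (InducedCategory.homMk a₂) e₂,
      ← Functor.map_comp_apply, ← Functor.map_comp_apply, ← op_comp, ← op_comp]
    refine piece_unique F _ _ _ _ ?_
    show (g₁.hom ≫ a₁) ≫ _ = (g₂.hom ≫ a₂) ≫ _
    rw [Category.assoc, Category.assoc, ← e₁, ← e₂, ← Category.assoc, ← Category.assoc]
    exact congrArg (fun q : Z ⟶ i => q.hom ≫ h) heq
  obtain ⟨v, hv, hvu⟩ := F_sheaf F _ hS x hcomp
  refine ⟨v, fun j g k a ha => ?_, fun v' hv' => hvu v' fun j g hg => ?_⟩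
  · rw [hv g ⟨k, a.hom, ha⟩, hx _ k a ha]
  · obtain ⟨k, a, ha⟩ := hg
    rw [hv' j g k (InducedCategory.homMk a) ha, hx _ k (InducedCategory.homMk a) ha]

/-- The value. -/
noncomputable def val {i : Gen gen} (h : gen i ⟶ big F) : F.obj.obj (op i) :=
  (existsUnique_val F h).choose

theorem val_nat {i j : Gen gen} (f : j ⟶ i) (h : gen i ⟶ big F) :
    val F (f.hom ≫ h) = F.obj.map f.op (val F h) := by
  refine ((existsUnique_val F (f.hom ≫ h)).choose_spec.2 _ fun l g k a ha => ?_).symm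
  rw [← Functor.map_comp_apply, ← op_comp]
  exact (existsUnique_val F h).choose_spec.1 l (g ≫ f) k a (by
    show (g.hom ≫ f.hom) ≫ h = _
    rw [Category.assoc, ha])

theorem val_inj (k : Ix F) : val F ((cop hb fun k : Ix F => gen k.1).inj k) = k.2 := by
  have := (existsUnique_val F ((cop hb fun k : Ix F => gen k.1).inj k)).choose_spec.1 k.1 (𝟙 _) k (𝟙 _) rfl
  simpa [val] using this

/-- The index of the relations. -/
abbrev RelIx : Type u :=
  Σ i : Gen gen, {p : (gen i ⟶ big F) × (gen i ⟶ big F) // val F p.1 = val F p.2}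

/-- The sum of the relations. -/
noncomputable abbrev relMap : (cop hb fun k : RelIx F => gen k.1).pt ⟶ big F ⨯ big F :=
  Cofan.IsColimit.desc (copIsColimit hb _) fun k => prod.lift k.2.1.1 k.2.1.2

theorem exists_obj : ∃ B : E, Nonempty ((toSh hb hc hgen).obj B ≅ F) := by
  obtain ⟨R, π₀, m, hm, hmono, -, hπ₀⟩ := exists_factor hc (relMap F)
  have char : ∀ (i : Gen gen) (x y : gen i ⟶ big F),
      (∃ r, r ≫ m = prod.lift x y) ↔ val F x = val F y := by
    intro i x y
    constructor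
    · rintro ⟨r, hr⟩
      refine F_ext F (liftSieve_mem (hb := hb) (hc := hc) (hgen := hgen) π₀ hπ₀ r) _ _ fun j g hg => ?_
      obtain ⟨w, hw⟩ := hg
      rw [← val_nat, ← val_nat]
      refine F_ext F (pieceSieve_mem (hc := hc) (hgen := hgen) _ w) _ _ fun l g' hg' => ?_
      obtain ⟨k, a, ha⟩ := hg'
      rw [← val_nat, ← val_nat]
      have e : prod.lift (g'.hom ≫ g.hom ≫ x) (g'.hom ≫ g.hom ≫ y) =
          prod.lift (a ≫ k.2.1.1) (a ≫ k.2.1.2) := by
        rw [← prod.comp_lift, ← prod.comp_lift, ← hr, reassoc_of% hw, hm, reassoc_of% ha,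
          Cofan.IsColimit.fac, prod.comp_lift]
      have e1 := congrArg (· ≫ prod.fst) e
      have e2 := congrArg (· ≫ prod.snd) e
      simp only [prod.lift_fst, prod.lift_snd] at e1 e2
      rw [e1, e2, show a = (InducedCategory.homMk a : l ⟶ k.1).hom from rfl, val_nat, val_nat, k.2.2]
    · intro h
      exact ⟨(cop hb fun k : RelIx F => gen k.1).inj ⟨i, (x, y), h⟩ ≫ π₀, by
        rw [Category.assoc, hm, Cofan.IsColimit.fac]⟩
  have charT : ∀ (T : E) (a b : T ⟶ big F), (∃ r : T ⟶ R, r ≫ m ≫ prod.fst = a ∧ r ≫ m ≫ prod.snd = b) ↔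
      ∀ (i : Gen gen) (x : gen i ⟶ T), val F (x ≫ a) = val F (x ≫ b) := by
    intro T a b
    constructor
    · rintro ⟨r, h1, h2⟩ i x
      refine (char i _ _).1 ⟨x ≫ r, ?_⟩
      apply prod.hom_ext <;> simp only [Category.assoc, h1, h2, prod.lift_fst, prod.lift_snd]
    · intro h
      obtain ⟨r, hr⟩ := factor_of_gen gen hgen (prod.lift a b) m fun i x => by
        obtain ⟨r, hr⟩ := (char i _ _).2 (h i x)
        exact ⟨r, hr.trans (prod.comp_lift _ _ _).symm⟩
      exact ⟨r, by rw [reassoc_of% hr, prod.lift_fst], by rw [reassoc_of% hr, prod.lift_snd]⟩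
  have heq : SGA4.IsEquivRel (m ≫ prod.fst) (m ≫ prod.snd) := by
    intro T
    refine ⟨fun a b h => ?_, ?_⟩
    · rw [← cancel_mono m]
      exact prod.hom_ext (by simpa using congrArg Prod.fst h) (by simpa using congrArg Prod.snd h)
    · simp only [charT]
      exact ⟨fun _ _ _ => rfl, fun h i x => (h i x).symm, fun h h' i x => (h i x).trans (h' i x)⟩
  obtain ⟨B, π, hpb, -, hπ⟩ := hc _ _ _ _ heq
  have kern : ∀ (i : Gen gen) (x y : gen i ⟶ big F), x ≫ π = y ≫ π ↔ val F x = val F y := by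
    intro i x y
    rw [← char]
    constructor
    · intro h
      exact ⟨hpb.lift x y h, prod.hom_ext
        (by rw [Category.assoc, hpb.lift_fst]; exact (prod.lift_fst _ _).symm)
        (by rw [Category.assoc, hpb.lift_snd]; exact (prod.lift_snd _ _).symm)⟩
    · rintro ⟨r, hr⟩
      have := congrArg (r ≫ ·) hpb.w
      simp only [Category.assoc, reassoc_of% hr, prod.lift_fst_assoc, prod.lift_snd_assoc] at this
      exact this
  have hθ : ∀ (i : Gen gen) (b : gen i ⟶ B), ∃! v : F.obj.obj (op i),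
      ∀ (j : Gen gen) (g : j ⟶ i) (w : gen j ⟶ big F), g.hom ≫ b = w ≫ π → F.obj.map g.op v = val F w := by
    intro i b
    let x : Presieve.FamilyOfElements F.obj (liftSieve gen π b).arrows := fun j g hg => val F hg.choose
    have hx : ∀ {j : Gen gen} {g : j ⟶ i} (hg : liftSieve gen π b g) (w : gen j ⟶ big F),
        g.hom ≫ b = w ≫ π → x g hg = val F w := fun {j g} hg w hw =>
      (kern _ _ _).1 (hg.choose_spec.symm.trans hw)
    have hcomp : x.Compatible := by
      intro Y₁ Y₂ Z g₁ g₂ f₁ f₂ h₁ h₂ heq'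
      show F.obj.map g₁.op (val F h₁.choose) = F.obj.map g₂.op (val F h₂.choose)
      rw [← val_nat, ← val_nat, ← kern, Category.assoc, Category.assoc, ← h₁.choose_spec,
        ← h₂.choose_spec, ← Category.assoc, ← Category.assoc]
      exact congrArg (fun q : Z ⟶ i => q.hom ≫ b) heq'
    obtain ⟨v, hv, hvu⟩ := F_sheaf F _ (liftSieve_mem π hπ b) x hcomp
    exact ⟨v, fun j g w hw => (hv g ⟨w, hw⟩).trans (hx _ w hw),
      fun v' hv' => hvu v' fun j g hg => hv' j g _ hg.choose_spec⟩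
  choose θ hθ1 hθ2 using hθ
  have hsurj : ∀ (i : Gen gen) (v : F.obj.obj (op i)), θ i ((cop hb fun k : Ix F => gen k.1).inj ⟨i, v⟩ ≫ π) = v := by
    intro i v
    refine (hθ2 _ _ v fun j g w hw => ?_).symm
    have h' := (kern j (g.hom ≫ (cop hb fun k : Ix F => gen k.1).inj ⟨i, v⟩) w).1 (by rw [Category.assoc, hw])
    rw [← h', val_nat, val_inj]
  refine ⟨B, ⟨ObjectProperty.isoMk _ (NatIso.ofComponents (fun i => Equiv.toIso (Equiv.ofBijective
    (θ i.unop) ⟨?_, fun v => ⟨_, hsurj _ v⟩⟩)) ?_)⟩⟩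
  · intro b b' h
    refine ((isSheaf_res (hb := hb) (hc := hc) (hgen := hgen) B).isSeparated _
      ((top hb hc hgen).intersection_covering (liftSieve_mem π hπ b) (liftSieve_mem π hπ b'))).ext ?_
    rintro j g ⟨⟨w, hw⟩, ⟨w', hw'⟩⟩
    show g.hom ≫ b = g.hom ≫ b'
    rw [hw, hw', kern, ← hθ1 _ _ _ g w hw, h, hθ1 _ _ _ g w' hw']
  · rintro ⟨i⟩ ⟨j⟩ ⟨f⟩
    ext b
    show θ j (f.hom ≫ b) = F.obj.map f.op (θ i b)
    refine (hθ2 _ _ _ fun l g w hw => ?_).symm
    rw [← Functor.map_comp_apply, ← op_comp]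
    exact hθ1 _ _ _ (g ≫ f) w ((Category.assoc _ _ _).trans hw)

end obj

include hb hc hgen in
theorem isTopos : SGA4.IsTopos.{v, u} E := by
  have := full_toSh (hb := hb) (hc := hc) (hgen := hgen)
  have := faithful_toSh (hb := hb) (hc := hc) (hgen := hgen)
  have : (toSh hb hc hgen).EssSurj := ⟨fun F => exists_obj F⟩
  have : (toSh hb hc hgen).IsEquivalence := { }
  exact ⟨Gen gen, inferInstance, top hb hc hgen, ⟨(toSh hb hc hgen).asEquivalence⟩⟩

theorem isTopos_of_axioms (hb : SGA4.HasDisjointUniversalCoproducts.{v, u} E)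
    (hc : ∀ (R A : E) (p₁ p₂ : R ⟶ A), SGA4.IsEquivRel p₁ p₂ →
      SGA4.IsEffectiveUniversalEquivRel p₁ p₂)
    (hd : ∃ P : ObjectProperty E, ObjectProperty.Small.{u} P ∧ P.IsDetecting) :
    SGA4.IsTopos.{v, u} E := by
  obtain ⟨P, hP, hdet⟩ := hd
  have : Small.{u} (Subtype P) := hP
  exact isTopos (hb := hb) (hc := hc) (gen := fun i : Shrink.{u} (Subtype P) => ((equivShrink _).symm i).1)
    (hgen := fun X Y f h => hdet f fun G hG g => by
      have h' := h (equivShrink _ ⟨G, hG⟩)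
      have e : ((equivShrink (Subtype P)).symm (equivShrink (Subtype P) ⟨G, hG⟩)).1 = G :=
        congrArg Subtype.val (Equiv.symm_apply_apply _ _)
      rw [e] at h'
      exact h' g)

end Groth.Agent.Lib.Giraud
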