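import Groth.Agent.Lib.Giraud.SheafAxioms
import Groth.Agent.Lib.Giraud.Site
import Groth.Agent.Lib.Giraud.Presentable

/-!
# Gluing along a left exact accessible functor gives a topos
-/

set_option autoImplicit false

universe u v v' w

open CategoryTheory CategoryTheory.Limits Opposite

namespace Groth.Agent.Lib.Giraud

theorem isEquivRel_map {A : Type v} [Category.{u} A] [HasFiniteLimits A] {B : Type v'} [Category.{u} B]
    (F : A ⥤ B) [PreservesFiniteLimits F] [HasFiniteLimits B] {R X : A} {p₁ p₂ : R ⟶ X}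
    (h : SGA4.IsEquivRel p₁ p₂) : SGA4.IsEquivRel (F.map p₁) (F.map p₂) := by
  have hm : Mono (prod.lift p₁ p₂) := ⟨fun a b hab => (h _).1 (Prod.ext
    (by
      have := congrArg (fun k => k ≫ (prod.fst : X ⨯ X ⟶ X)) hab
      simp only [Category.assoc, prod.lift_fst] at this
      exact this)
    (by
      have := congrArg (fun k => k ≫ (prod.snd : X ⨯ X ⟶ X)) hab
      simp only [Category.assoc, prod.lift_snd] at this
      exact this))⟩
  obtain ⟨d, hd1, hd2⟩ := (h X).2.refl (𝟙 X)
  obtain ⟨s, hs1, hs2⟩ := (h R).2.symm (x := p₁) (y := p₂) ⟨𝟙 R, by simp, by simp⟩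
  obtain ⟨t, ht1, ht2⟩ := (h (pullback p₂ p₁)).2.trans
    (x := pullback.fst p₂ p₁ ≫ p₁) (y := pullback.fst p₂ p₁ ≫ p₂) (z := pullback.snd p₂ p₁ ≫ p₂)
    ⟨pullback.fst p₂ p₁, rfl, rfl⟩ ⟨pullback.snd p₂ p₁, pullback.condition.symm, rfl⟩
  intro T
  refine ⟨fun a b hab => ?_, ?_, ?_, ?_⟩
  · rw [← cancel_mono (F.map (prod.lift p₁ p₂) ≫ prodComparison F X X)]
    apply prod.hom_ext
    · simp only [Category.assoc, prodComparison_fst]
      rw [← F.map_comp, prod.lift_fst]
      exact congrArg Prod.fst hab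
    · simp only [Category.assoc, prodComparison_snd]
      rw [← F.map_comp, prod.lift_snd]
      exact congrArg Prod.snd hab
  · exact fun x => ⟨x ≫ F.map d, by simp [← Functor.map_comp, hd1],
      by simp [← Functor.map_comp, hd2]⟩
  · rintro x y ⟨f, rfl, rfl⟩
    exact ⟨f ≫ F.map s, by simp [← Functor.map_comp, hs1], by simp [← Functor.map_comp, hs2]⟩
  · rintro x y z ⟨f, rfl, hf⟩ ⟨g, hg, rfl⟩
    have H := (IsPullback.of_hasPullback p₂ p₁).map F
    refine ⟨H.lift f g (hf.trans hg.symm) ≫ F.map t, ?_, ?_⟩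
    · rw [Category.assoc, ← F.map_comp, ht1, F.map_comp, H.lift_fst_assoc]
    · rw [Category.assoc, ← F.map_comp, ht2, F.map_comp, H.lift_snd_assoc]

variable {X : Type v} [Category.{u} X] {Y : Type v} [Category.{u} Y] (ρ : X ⥤ Y)

variable {ρ} in
/-- The cocone colimit of a cofan of glued objects. -/
noncomputable def commaCofan {κ : Type w} (T : κ → Comma (𝟭 Y) ρ) (cl : Cofan fun k => (T k).left)
    (hl : IsColimit cl) (cr : Cofan fun k => (T k).right) : Cofan T :=
  Cofan.mk ({ left := cl.pt, right := cr.pt,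
              hom := Cofan.IsColimit.desc hl fun k => (T k).hom ≫ ρ.map (cr.inj k) } : Comma (𝟭 Y) ρ)
    fun k => { left := cl.inj k, right := cr.inj k,
               w := Cofan.IsColimit.fac hl _ k }

variable {ρ} in
/-- It is a colimit. -/
noncomputable def commaCofanIsColimit {κ : Type w} (T : κ → Comma (𝟭 Y) ρ)
    (cl : Cofan fun k => (T k).left) (hl : IsColimit cl) (cr : Cofan fun k => (T k).right)
    (hr : IsColimit cr) : IsColimit (commaCofan T cl hl cr) :=
  mkCofanColimit _
    (fun s =>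
      { left := Cofan.IsColimit.desc hl fun k => (s.inj k).left
        right := Cofan.IsColimit.desc hr fun k => (s.inj k).right
        w := Cofan.IsColimit.hom_ext hl _ _ fun k => by
          show cl.inj k ≫ Cofan.IsColimit.desc hl _ ≫ _ = cl.inj k ≫ Cofan.IsColimit.desc hl _ ≫ _
          erw [Cofan.IsColimit.fac_assoc, Cofan.IsColimit.fac_assoc, Category.assoc, ← ρ.map_comp,
            Cofan.IsColimit.fac]
          exact (s.inj k).w })
    (fun s k => by
      apply CommaMorphism.ext
      · exact Cofan.IsColimit.fac hl _ k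
      · exact Cofan.IsColimit.fac hr _ k)
    (fun s m hm => by
      apply CommaMorphism.ext
      · exact Cofan.IsColimit.hom_ext hl _ _ fun k =>
          (congrArg CommaMorphism.left (hm k)).trans (Cofan.IsColimit.fac hl (fun k => (s.inj k).left) k).symm
      · exact Cofan.IsColimit.hom_ext hr _ _ fun k =>
          (congrArg CommaMorphism.right (hm k)).trans (Cofan.IsColimit.fac hr (fun k => (s.inj k).right) k).symm)

variable [HasFiniteLimits X] [HasFiniteLimits Y] [PreservesFiniteLimits ρ]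

theorem hasFiniteLimits_comma : HasFiniteLimits (Comma (𝟭 Y) ρ) := ⟨fun _ _ _ => inferInstance⟩

theorem isPullback_of_components {W A B Z : Comma (𝟭 Y) ρ} {f : W ⟶ A} {g : W ⟶ B} {h : A ⟶ Z}
    {k : B ⟶ Z} (hl : IsPullback f.left g.left h.left k.left)
    (hr : IsPullback f.right g.right h.right k.right) : IsPullback f g h k := by
  have hρ := hr.map ρ
  refine ⟨⟨CommaMorphism.ext hl.w hr.w⟩, ⟨PullbackCone.IsLimit.mk _
    (fun s =>
      { left := hl.lift s.fst.left s.snd.left (congrArg CommaMorphism.left s.condition)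
        right := hr.lift s.fst.right s.snd.right (congrArg CommaMorphism.right s.condition)
        w := by
          apply hρ.hom_ext
          · rw [Category.assoc, Category.assoc, ← ρ.map_comp, hr.lift_fst]
            erw [← f.w, hl.lift_fst_assoc]
            exact s.fst.w
          · rw [Category.assoc, Category.assoc, ← ρ.map_comp, hr.lift_snd]
            erw [← g.w, hl.lift_snd_assoc]
            exact s.snd.w })
    (fun s => CommaMorphism.ext (hl.lift_fst _ _ _) (hr.lift_fst _ _ _))
    (fun s => CommaMorphism.ext (hl.lift_snd _ _ _) (hr.lift_snd _ _ _))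
    (fun s m h1 h2 => CommaMorphism.ext
      (hl.hom_ext ((congrArg CommaMorphism.left h1).trans (hl.lift_fst _ _ _).symm)
        ((congrArg CommaMorphism.left h2).trans (hl.lift_snd _ _ _).symm))
      (hr.hom_ext ((congrArg CommaMorphism.right h1).trans (hr.lift_fst _ _ _).symm)
        ((congrArg CommaMorphism.right h2).trans (hr.lift_snd _ _ _).symm)))⟩⟩

theorem comma_fst_preserves : PreservesFiniteLimits (Comma.fst (𝟭 Y) ρ) ∧
    PreservesFiniteLimits (Comma.snd (𝟭 Y) ρ) := by
  constructor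
  · constructor
    intro K _ _
    refine ⟨fun {G} => preservesLimit_of_preserves_limit_cone
      (Comma.coneOfPreservesIsLimit G (limit.isLimit (G ⋙ Comma.fst _ _)) (limit.isLimit (G ⋙ Comma.snd _ _)))
      (limit.isLimit (G ⋙ Comma.fst _ _))⟩
  · constructor
    intro K _ _
    refine ⟨fun {G} => preservesLimit_of_preserves_limit_cone
      (Comma.coneOfPreservesIsLimit G (limit.isLimit (G ⋙ Comma.fst _ _)) (limit.isLimit (G ⋙ Comma.snd _ _)))
      (limit.isLimit (G ⋙ Comma.snd _ _))⟩

theorem comma_coproducts (bX : SGA4.HasDisjointUniversalCoproducts.{v, u} X)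
    (bY : SGA4.HasDisjointUniversalCoproducts.{v, u} Y) :
    SGA4.HasDisjointUniversalCoproducts.{max u v, u} (Comma (𝟭 Y) ρ) := by
  intro κ T
  have := hasFiniteLimits_comma ρ
  obtain ⟨p1, p2⟩ := comma_fst_preserves ρ
  obtain ⟨cl, hl, dl, ul⟩ := bY κ fun k => (T k).left
  obtain ⟨cr, hr, dr, ur⟩ := bX κ fun k => (T k).right
  refine ⟨commaCofan T cl hl cr, commaCofanIsColimit T cl hl cr hr, ?_, ?_⟩
  · have hmono : ∀ k, Mono ((commaCofan T cl hl cr).inj k) := fun k => by
      have := dl.mono_inj hl k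
      have := dr.mono_inj hr k
      exact ⟨fun a b hab => CommaMorphism.ext
        ((cancel_mono (cl.inj k)).1 (congrArg CommaMorphism.left hab))
        ((cancel_mono (cr.inj k)).1 (congrArg CommaMorphism.right hab))⟩
    refine CoproductDisjoint.of_cofan (commaCofanIsColimit T cl hl cr hr)
      (fun {i j} _ => (IsPullback.of_hasPullback ((commaCofan T cl hl cr).inj i)
        ((commaCofan T cl hl cr).inj j)).cone)
      (fun {i j} _ => (IsPullback.of_hasPullback _ _).isLimit) (fun {i j} hij => ?_)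
    let P := pullback ((commaCofan T cl hl cr).inj i) ((commaCofan T cl hl cr).inj j)
    have H : IsPullback (pullback.fst _ _) (pullback.snd _ _) ((commaCofan T cl hl cr).inj i)
        ((commaCofan T cl hl cr).inj j) := IsPullback.of_hasPullback _ _
    have iL : IsInitial P.left :=
      (dl.nonempty_isInitial_of_ne hl hij _ (H.map (Comma.fst _ _)).isLimit).some
    have iR : IsInitial P.right :=
      (dr.nonempty_isInitial_of_ne hr hij _ (H.map (Comma.snd _ _)).isLimit).some
    exact IsInitial.ofUniqueHom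
      (fun Z => { left := iL.to _, right := iR.to _, w := iL.hom_ext _ _ })
      (fun Z m => CommaMorphism.ext (iL.hom_ext _ _) (iR.hom_ext _ _))
  · intro F' c' α f hw hα H
    obtain ⟨G', rfl⟩ : ∃ G', F' = Discrete.functor G' :=
      ⟨fun k => F'.obj ⟨k⟩, CategoryTheory.Functor.ext (fun _ => rfl)
        (by rintro ⟨i⟩ ⟨j⟩ ⟨⟨h⟩⟩; cases h; simp)⟩
    let c'' : Cofan G' := c'
    let dl' : Cofan fun k => (G' k).left := Cofan.mk c''.pt.left fun k => (c''.inj k).left
    let dr' : Cofan fun k => (G' k).right := Cofan.mk c''.pt.right fun k => (c''.inj k).right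
    obtain ⟨il⟩ := ul dl' (Discrete.natTrans fun ⟨k⟩ => (α.app ⟨k⟩).left) f.left
      (by ext ⟨k⟩; exact congrArg CommaMorphism.left (NatTrans.congr_app hw ⟨k⟩))
      (NatTrans.Equifibered.of_discrete _) (fun ⟨k⟩ => (H ⟨k⟩).map (Comma.fst _ _))
    obtain ⟨ir⟩ := ur dr' (Discrete.natTrans fun ⟨k⟩ => (α.app ⟨k⟩).right) f.right
      (by ext ⟨k⟩; exact congrArg CommaMorphism.right (NatTrans.congr_app hw ⟨k⟩))
      (NatTrans.Equifibered.of_discrete _) (fun ⟨k⟩ => (H ⟨k⟩).map (Comma.snd _ _))
    refine ⟨mkCofanColimit c''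
      (fun s =>
        { left := Cofan.IsColimit.desc il fun k => (s.inj k).left
          right := Cofan.IsColimit.desc ir fun k => (s.inj k).right
          w := Cofan.IsColimit.hom_ext il _ _ fun k => by
            show dl'.inj k ≫ Cofan.IsColimit.desc il _ ≫ _ = dl'.inj k ≫ _ ≫ _
            rw [Cofan.IsColimit.fac_assoc]
            show (s.inj k).left ≫ _ = (c''.inj k).left ≫ c''.pt.hom ≫ _
            erw [reassoc_of% (c''.inj k).w, ← ρ.map_comp]
            exact (s.inj k).w.trans (congrArg (fun q => (G' k).hom ≫ ρ.map q)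
              (Cofan.IsColimit.fac ir (fun k => (s.inj k).right) k).symm) })
      (fun s k => CommaMorphism.ext (Cofan.IsColimit.fac il _ k) (Cofan.IsColimit.fac ir _ k))
      (fun s m hm => CommaMorphism.ext
        (Cofan.IsColimit.hom_ext il _ _ fun k =>
          (congrArg CommaMorphism.left (hm k)).trans (Cofan.IsColimit.fac il (fun k => (s.inj k).left) k).symm)
        (Cofan.IsColimit.hom_ext ir _ _ fun k =>
          (congrArg CommaMorphism.right (hm k)).trans (Cofan.IsColimit.fac ir (fun k => (s.inj k).right) k).symm))⟩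

theorem comma_effective (cX : ∀ (R A : X) (p₁ p₂ : R ⟶ A), SGA4.IsEquivRel p₁ p₂ →
      SGA4.IsEffectiveUniversalEquivRel p₁ p₂)
    (cY : ∀ (R A : Y) (p₁ p₂ : R ⟶ A), SGA4.IsEquivRel p₁ p₂ →
      SGA4.IsEffectiveUniversalEquivRel p₁ p₂)
    [HasFiniteLimits (Comma (𝟭 Y) ρ)] (R A : Comma (𝟭 Y) ρ) (p₁ p₂ : R ⟶ A)
    (h : SGA4.IsEquivRel p₁ p₂) : SGA4.IsEffectiveUniversalEquivRel p₁ p₂ := by
  obtain ⟨P1, P2⟩ := comma_fst_preserves ρ
  obtain ⟨Bl, πl, pbl, pol, efl⟩ := cY _ _ _ _ (isEquivRel_map (Comma.fst (𝟭 Y) ρ) h)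
  obtain ⟨Br, πr, pbr, por, efr⟩ := cX _ _ _ _ (isEquivRel_map (Comma.snd (𝟭 Y) ρ) h)
  have wl : p₁.left ≫ A.hom ≫ ρ.map πr = p₂.left ≫ A.hom ≫ ρ.map πr := by
    erw [reassoc_of% p₁.w, reassoc_of% p₂.w, ← ρ.map_comp, ← ρ.map_comp]
    exact congrArg (fun q => R.hom ≫ ρ.map q) pbr.w
  let B : Comma (𝟭 Y) ρ := { left := Bl, right := Br, hom := pol.desc _ _ wl }
  let π : A ⟶ B := { left := πl, right := πr, w := pol.inl_desc _ _ _ }
  have w : p₁ ≫ π = p₂ ≫ π := CommaMorphism.ext pbl.w pbr.w
  refine ⟨B, π, isPullback_of_components ρ pbl pbr, ?_, ?_⟩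
  · refine ⟨⟨w⟩, ⟨PushoutCocone.IsColimit.mk _
      (fun s =>
        { left := pol.desc s.inl.left s.inr.left (congrArg CommaMorphism.left s.condition)
          right := por.desc s.inl.right s.inr.right (congrArg CommaMorphism.right s.condition)
          w := by
            apply pol.hom_ext
            · show πl ≫ pol.desc _ _ _ ≫ _ = πl ≫ pol.desc _ _ _ ≫ _
              erw [pol.inl_desc_assoc, pol.inl_desc_assoc, Category.assoc, ← ρ.map_comp, por.inl_desc]
              exact s.inl.w
            · show πl ≫ pol.desc _ _ _ ≫ _ = πl ≫ pol.desc _ _ _ ≫ _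
              erw [pol.inr_desc_assoc, pol.inr_desc_assoc, Category.assoc, ← ρ.map_comp, por.inr_desc]
              exact s.inr.w })
      (fun s => CommaMorphism.ext (pol.inl_desc _ _ _) (por.inl_desc _ _ _))
      (fun s => CommaMorphism.ext (pol.inr_desc _ _ _) (por.inr_desc _ _ _))
      (fun s m h1 h2 => CommaMorphism.ext
        (pol.hom_ext ((congrArg CommaMorphism.left h1).trans (pol.inl_desc _ _ _).symm)
          ((congrArg CommaMorphism.left h2).trans (pol.inr_desc _ _ _).symm))
        (por.hom_ext ((congrArg CommaMorphism.right h1).trans (por.inl_desc _ _ _).symm)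
          ((congrArg CommaMorphism.right h2).trans (por.inr_desc _ _ _).symm)))⟩⟩
  · intro B' g
    let q := pullback.snd π g
    have Hl : IsPullback (pullback.fst π g).left q.left πl g.left :=
      (IsPullback.of_hasPullback π g).map (Comma.fst _ _)
    have Hr : IsPullback (pullback.fst π g).right q.right πr g.right :=
      (IsPullback.of_hasPullback π g).map (Comma.snd _ _)
    have el : EffectiveEpi q.left := by
      rw [← Hl.isoPullback_hom_snd]
      have := efl _ g.left
      infer_instance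
    have er : EffectiveEpi q.right := by
      rw [← Hr.isoPullback_hom_snd]
      have := efr _ g.right
      infer_instance
    have cl : ∀ {Z : Comma (𝟭 Y) ρ} (e : pullback π g ⟶ Z),
        (∀ {W : Comma (𝟭 Y) ρ} (g₁ g₂ : W ⟶ pullback π g), g₁ ≫ q = g₂ ≫ q → g₁ ≫ e = g₂ ≫ e) →
        (∀ {W : Y} (g₁ g₂ : W ⟶ (pullback π g).left), g₁ ≫ q.left = g₂ ≫ q.left → g₁ ≫ e.left = g₂ ≫ e.left) ∧
        (∀ {W : X} (g₁ g₂ : W ⟶ (pullback π g).right), g₁ ≫ q.right = g₂ ≫ q.right → g₁ ≫ e.right = g₂ ≫ e.right) := by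
      intro Z e he
      have hk := he (pullback.fst q q) (pullback.snd q q) pullback.condition
      constructor
      · intro W g₁ g₂ hW
        have K : IsPullback (pullback.fst q q).left (pullback.snd q q).left q.left q.left :=
          (IsPullback.of_hasPullback q q).map (Comma.fst _ _)
        have := congrArg (fun m => K.lift g₁ g₂ hW ≫ m) (congrArg CommaMorphism.left hk)
        simpa [← Category.assoc] using this
      · intro W g₁ g₂ hW
        have K : IsPullback (pullback.fst q q).right (pullback.snd q q).right q.right q.right :=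
          (IsPullback.of_hasPullback q q).map (Comma.snd _ _)
        have := congrArg (fun m => K.lift g₁ g₂ hW ≫ m) (congrArg CommaMorphism.right hk)
        simpa [← Category.assoc] using this
    refine ⟨⟨{
      desc := fun e he =>
        { left := EffectiveEpi.desc q.left e.left fun g₁ g₂ hg => (cl e he).1 g₁ g₂ hg
          right := EffectiveEpi.desc q.right e.right fun g₁ g₂ hg => (cl e he).2 g₁ g₂ hg
          w := by
            rw [← cancel_epi q.left]
            erw [EffectiveEpi.fac_assoc q.left e.left (fun g₁ g₂ hg => (cl e he).1 g₁ g₂ hg), reassoc_of% q.w,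
              ← ρ.map_comp, EffectiveEpi.fac q.right e.right (fun g₁ g₂ hg => (cl e he).2 g₁ g₂ hg)]
            exact e.w }
      fac := fun e he => CommaMorphism.ext (EffectiveEpi.fac q.left e.left (fun g₁ g₂ hg => (cl e he).1 g₁ g₂ hg))
        (EffectiveEpi.fac q.right e.right (fun g₁ g₂ hg => (cl e he).2 g₁ g₂ hg))
      uniq := fun e he m hm => CommaMorphism.ext
        (EffectiveEpi.uniq q.left e.left (fun g₁ g₂ hg => (cl e he).1 g₁ g₂ hg) m.left (congrArg CommaMorphism.left hm))
        (EffectiveEpi.uniq q.right e.right (fun g₁ g₂ hg => (cl e he).2 g₁ g₂ hg) m.right (congrArg CommaMorphism.right hm)) }⟩⟩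

/-- The glued category of two sheaf topoi along a left exact accessible functor is a topos. -/
theorem glue_isTopos {C D : Type u} [SmallCategory C] [SmallCategory D] (J : GrothendieckTopology C)
    (K : GrothendieckTopology D) (σ : Sheaf J (Type u) ⥤ Sheaf K (Type u)) [PreservesFiniteLimits σ]
    [σ.IsAccessible.{u}] :
    SGA4.IsTopos.{u + 1, u} (Comma (𝟭 (Sheaf K (Type u))) σ) := by
  obtain ⟨κJ, _, hJ⟩ := sheaf_locallyPresentable J
  obtain ⟨κK, _, hK⟩ := sheaf_locallyPresentable K
  obtain ⟨κσ, hσr, hσ⟩ := Functor.IsAccessible.exists_cardinal (F := σ)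
  obtain ⟨κ, hκ, hle⟩ := exists_regular_forall_le
    (Sum.elim (fun _ : PUnit.{u + 1} => κJ) (Sum.elim (fun _ : PUnit.{u + 1} => κK) (fun _ : PUnit.{u + 1} => κσ)))
  have : Fact κ.IsRegular := ⟨hκ⟩
  have := hJ κ (hle (Sum.inl PUnit.unit))
  have := hK κ (hle (Sum.inr (Sum.inl PUnit.unit)))
  have : σ.IsCardinalAccessible κ :=
    σ.isCardinalAccessible_of_le (κ := κσ) (hle (Sum.inr (Sum.inr PUnit.unit)))
  obtain ⟨P, hPs, hP⟩ := HasCardinalFilteredGenerator.exists_small_generator (Sheaf J (Type u)) κ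
  obtain ⟨Q, hQs, hQ⟩ := HasCardinalFilteredGenerator.exists_small_generator (Sheaf K (Type u)) κ
  obtain ⟨hQ1, hQ2⟩ := ObjectProperty.isStrongGenerator_iff.1 hQ.isStrongGenerator
  obtain ⟨hP1, hP2⟩ := ObjectProperty.isStrongGenerator_iff.1 hP.isStrongGenerator
  obtain ⟨c0, hc0, -, -⟩ := (sheaf_axioms K).1 PEmpty.{u + 1} (fun x => x.elim)
  let z : IsInitial c0.pt := IsInitial.ofUniqueHom (fun Z => Cofan.IsColimit.desc hc0 fun x => x.elim)
    fun Z m => Cofan.IsColimit.hom_ext hc0 _ _ fun x => x.elim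
  let gen : (Subtype P ⊕ Σ (G : Subtype Q) (X : Subtype P), (G.1 ⟶ σ.obj X.1)) →
      Comma (𝟭 (Sheaf K (Type u))) σ :=
    Sum.elim (fun G => { left := c0.pt, right := G.1, hom := z.to _ })
      fun p => { left := p.1.1, right := p.2.1.1, hom := p.2.2 }
  let G' : ObjectProperty (Comma (𝟭 (Sheaf K (Type u))) σ) := ObjectProperty.ofObj gen
  have := hasFiniteLimits_comma σ
  refine isTopos_of_axioms
    (comma_coproducts σ (sheaf_axioms J).1 (sheaf_axioms K).1)
    (fun R A p₁ p₂ h => comma_effective σ (sheaf_axioms J).2 (sheaf_axioms K).2 R A p₁ p₂ h)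
    ⟨G', inferInstance, ?_⟩
  intro T T' m hm
  have hinr : ∀ (G : Sheaf J (Type u)), P G → ∀ g : G ⟶ T'.right, ∃! g' : G ⟶ T.right, g' ≫ m.right = g := by
    intro G hG g
    obtain ⟨l, hl, hu⟩ := hm (gen (Sum.inl ⟨G, hG⟩)) ⟨_⟩
      { left := z.to _, right := g, w := z.hom_ext _ _ }
    refine ⟨l.right, congrArg CommaMorphism.right hl, fun g' hg' => ?_⟩
    exact congrArg CommaMorphism.right (hu { left := z.to _, right := g', w := z.hom_ext _ _ }
      (CommaMorphism.ext (z.hom_ext _ _) hg'))
  have hr : IsIso m.right := by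
    have : Mono m.right := ⟨fun a b hab => hP1 _ _ fun G hG x =>
      (hinr G hG (x ≫ a ≫ m.right)).unique (Category.assoc _ _ _) (by rw [Category.assoc, hab])⟩
    exact hP2 m.right fun G hG g => (hinr G hG g).exists
  have hsurj : ∀ (G : Sheaf K (Type u)), Q G → ∀ g : G ⟶ T'.left, ∃ g' : G ⟶ T.left, g' ≫ m.left = g ∧
      ∀ g'' : G ⟶ T.left, g'' ≫ m.left = g → g'' = g' := by
    intro G hG g
    obtain ⟨I, _, _, ⟨p⟩⟩ := hP.exists_colimitsOfShape T'.right
    have := isCardinalPresentable_iff κ G |>.1 (hQ.le_isCardinalPresentable G hG)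
    have := σ.preservesColimitsOfShape_of_isCardinalAccessible κ I
    have := preservesColimitsOfShape_of_isCardinalPresentable G κ I
    obtain ⟨i, h, hh⟩ := Limits.exists_hom_of_preservesColimit_coyoneda
      (isColimitOfPreserves σ p.isColimit) (g ≫ T'.hom)
    change h ≫ σ.map (p.ι.app i) = g ≫ T'.hom at hh
    obtain ⟨l, hl, hu⟩ := hm (gen (Sum.inr ⟨⟨G, hG⟩, ⟨p.diag.obj i, p.prop_diag_obj i⟩, h⟩)) ⟨_⟩
      { left := g, right := p.ι.app i, w := hh.symm }
    refine ⟨l.left, congrArg CommaMorphism.left hl, fun g'' hg'' => ?_⟩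
    refine congrArg CommaMorphism.left (hu { left := g'', right := p.ι.app i ≫ inv m.right, w := ?_ }
      (CommaMorphism.ext hg'' ((Category.assoc _ _ _).trans
        ((congrArg (p.ι.app i ≫ ·) (IsIso.inv_hom_id m.right)).trans (Category.comp_id _)))))
    show g'' ≫ T.hom = h ≫ σ.map (p.ι.app i ≫ inv m.right)
    rw [← cancel_mono (σ.map m.right), Category.assoc, Category.assoc, ← σ.map_comp, Category.assoc,
      IsIso.inv_hom_id, Category.comp_id, hh, ← hg'', Category.assoc]
    exact congrArg (g'' ≫ ·) m.w.symm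
  have hl : IsIso m.left := by
    have : Mono m.left := ⟨fun a b hab => hQ1 _ _ fun G hG x => by
      obtain ⟨g', -, hu⟩ := hsurj G hG (x ≫ a ≫ m.left)
      exact (hu _ (Category.assoc _ _ _)).trans (hu _ (by rw [Category.assoc, hab])).symm⟩
    exact hQ2 m.left fun G hG g => (hsurj G hG g).imp fun _ h => h.1
  exact Iso.isIso_hom (Comma.isoMk (asIso m.left) (asIso m.right) m.w)

end Groth.Agent.Lib.Giraud
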