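import Groth.Prelude.Def_SGA4a
import Mathlib

/-!
# Left exact reflective subcategories of presheaf categories are sheaf categories
-/

set_option autoImplicit false

universe u

open CategoryTheory CategoryTheory.Limits Opposite

namespace Groth.Agent.Lib.Giraud

variable {C : Type u} [SmallCategory C] (P : ObjectProperty (Cᵒᵖ ⥤ Type u)) [Reflective P.ι]

/-- The topology of a reflective subcategory. -/
def reflTop : GrothendieckTopology C := Sheaf.finestTopology {F | P F}

theorem isPullback_of_app {W X Y Z : Cᵒᵖ ⥤ Type u} {f : W ⟶ X} {g : W ⟶ Y} {h : X ⟶ Z} {k : Y ⟶ Z}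
    (w : f ≫ h = g ≫ k) (H : ∀ c, IsPullback (f.app c) (g.app c) (h.app c) (k.app c)) :
    IsPullback f g h k :=
  ⟨⟨w⟩, ⟨evaluationJointlyReflectsLimits _ fun c =>
    (isLimitMapConePullbackConeEquiv _ _).symm (H c).isLimit⟩⟩

theorem isSheaf_of_mem {F : Cᵒᵖ ⥤ Type u} (hF : P F) : Presieve.IsSheaf (reflTop P) F :=
  Sheaf.sheaf_for_finestTopology _ hF

theorem isSheafFor_of_isIso {X : C} {S : Sieve X} (hS : IsIso ((reflector P.ι).map S.functorInclusion))
    {F : Cᵒᵖ ⥤ Type u} (hF : P F) : Presieve.IsSheafFor F (S : Presieve X) := by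
  rw [Presieve.isSheafFor_iff_yonedaSheafCondition]
  intro φ
  let Z : P.FullSubcategory := ⟨F, hF⟩
  let adj := reflectorAdjunction P.ι
  refine ⟨adj.homEquiv (yoneda.obj X) Z
    (inv ((reflector P.ι).map S.functorInclusion) ≫ (adj.homEquiv S.functor Z).symm φ), ?_, ?_⟩
  · show S.functorInclusion ≫ adj.homEquiv (yoneda.obj X) Z _ = φ
    rw [← adj.homEquiv_naturality_left, IsIso.hom_inv_id_assoc]
    exact (adj.homEquiv S.functor Z).apply_symm_apply φ
  · intro g hg
    apply (adj.homEquiv (yoneda.obj X) Z).symm.injective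
    rw [Equiv.symm_apply_apply, IsIso.eq_inv_comp, ← adj.homEquiv_naturality_left_symm]
    exact congrArg _ hg

theorem isIso_of_isSheafFor {X : C} {S : Sieve X}
    (hS : ∀ F : Cᵒᵖ ⥤ Type u, P F → Presieve.IsSheafFor F (S : Presieve X)) :
    IsIso ((reflector P.ι).map S.functorInclusion) := by
  let adj := reflectorAdjunction P.ι
  apply isIso_of_yoneda_map_bijective (C := P.FullSubcategoryᵒᵖ) (f := ((reflector P.ι).map S.functorInclusion).op) |> fun h => (isIso_op_iff _).1 (h ?_)
  rintro ⟨Z⟩
  have h := hS Z.obj Z.property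
  rw [Presieve.isSheafFor_iff_yonedaSheafCondition] at h
  have key : ∀ b : (reflector P.ι).obj (yoneda.obj X) ⟶ Z,
      adj.homEquiv S.functor Z ((reflector P.ι).map S.functorInclusion ≫ b) =
        S.functorInclusion ≫ adj.homEquiv (yoneda.obj X) Z b := fun b =>
    adj.homEquiv_naturality_left _ _
  constructor
  · intro a b hab
    apply Quiver.Hom.unop_inj
    apply (adj.homEquiv (yoneda.obj X) Z).injective
    refine (h (adj.homEquiv S.functor Z ((reflector P.ι).map S.functorInclusion ≫ a.unop))).unique
      (key a.unop).symm ?_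
    rw [show (reflector P.ι).map S.functorInclusion ≫ a.unop = (reflector P.ι).map S.functorInclusion ≫ b.unop from
      congrArg Quiver.Hom.unop hab]
    exact (key b.unop).symm
  · intro b
    obtain ⟨g, hg, -⟩ := h (adj.homEquiv S.functor Z b.unop)
    refine ⟨((adj.homEquiv (yoneda.obj X) Z).symm g).op, Quiver.Hom.unop_inj ?_⟩
    apply (adj.homEquiv S.functor Z).injective
    exact (key _).trans ((congrArg (S.functorInclusion ≫ ·) ((adj.homEquiv (yoneda.obj X) Z).apply_symm_apply g)).trans hg)

variable [PreservesFiniteLimits (reflector P.ι)]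

theorem isIso_pullback {X Y : C} (f : Y ⟶ X) {S : Sieve X}
    (hS : IsIso ((reflector P.ι).map S.functorInclusion)) :
    IsIso ((reflector P.ι).map (S.pullback f).functorInclusion) := by
  let t : (S.pullback f).functor ⟶ S.functor :=
    { app := fun Z => ↾fun g => ⟨g.1 ≫ f, g.2⟩
      naturality := fun Z W h => by ext g; exact Subtype.ext (Category.assoc _ _ _) }
  have H : IsPullback t (S.pullback f).functorInclusion S.functorInclusion (yoneda.map f) := by
    refine isPullback_of_app rfl fun Z => ?_
    rw [Types.isPullback_iff]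
    refine ⟨rfl, fun a b h => Subtype.ext h.2, fun a b h => ?_⟩
    refine ⟨⟨b, ?_⟩, Subtype.ext h.symm, rfl⟩
    show S (b ≫ f)
    rw [show b ≫ f = a.1 from h.symm]
    exact a.2
  exact (H.map (reflector P.ι)).isIso_snd_of_isIso hS

theorem mem_reflTop_iff {X : C} {S : Sieve X} :
    S ∈ reflTop P X ↔ IsIso ((reflector P.ι).map S.functorInclusion) := by
  refine ⟨fun hS => isIso_of_isSheafFor P fun F hF => isSheaf_of_mem P hF S hS, fun hS => ?_⟩
  exact Sheaf.mem_finestTopology_of_forall_isSheafFor fun F hF Y f =>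
    isSheafFor_of_isIso P (isIso_pullback P f hS) hF

variable [P.IsClosedUnderIsomorphisms]

theorem mem_of_isSheaf {F : Cᵒᵖ ⥤ Type u} (hF : Presieve.IsSheaf (reflTop P) F) : P F := by
  let adj := reflectorAdjunction P.ι
  let G := ((reflector P.ι).obj F).obj
  let η : F ⟶ G := adj.unit.app F
  have hGs : Presieve.IsSheaf (reflTop P) G := isSheaf_of_mem P ((reflector P.ι).obj F).property
  have hη : IsIso ((reflector P.ι).map η) := inferInstanceAs (IsIso ((reflector P.ι).map (adj.unit.app F)))
  have hker : IsIso ((reflector P.ι).map (pullback.diagonal η)) := by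
    have h1 : IsIso ((reflector P.ι).map (pullback.fst η η)) :=
      ((IsPullback.of_hasPullback η η).map (reflector P.ι)).isIso_fst_of_isIso hη
    have h2 : (reflector P.ι).map (pullback.diagonal η) ≫ (reflector P.ι).map (pullback.fst η η) = 𝟙 _ := by
      rw [← Functor.map_comp, pullback.diagonal_fst, (reflector P.ι).map_id]
    exact IsIso.of_isIso_fac_right h2
  have hK := fun c : Cᵒᵖ => (Types.isPullback_iff _ _ _ _).1
    ((IsPullback.of_hasPullback η η).map ((evaluation Cᵒᵖ (Type u)).obj c))
  have hdiag : ∀ (c : Cᵒᵖ) (z : F.obj c),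
      (pullback.fst η η).app c ((pullback.diagonal η).app c z) = z ∧
      (pullback.snd η η).app c ((pullback.diagonal η).app c z) = z := fun c z =>
    ⟨congr($(NatTrans.congr_app (pullback.diagonal_fst η) c) z),
      congr($(NatTrans.congr_app (pullback.diagonal_snd η) c) z)⟩
  have inj : ∀ c, Function.Injective (η.app c) := by
    intro c x y h
    let E := Presheaf.equalizerSieve (F := F) x y
    obtain ⟨p, hp1, hp2⟩ := (hK c).2.2 x y h
    let P0 : yoneda.obj c.unop ⟶ pullback η η := yonedaEquiv.symm p
    let v : E.functor ⟶ F := E.functorInclusion ≫ yonedaEquiv.symm x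
    have hv : ∀ (d : Cᵒᵖ) (g : E.functor.obj d),
        (v.app d g = F.map g.1.op x) ∧ (P0.app d g.1 = (pullback η η).map g.1.op p) :=
      fun d g => ⟨rfl, rfl⟩
    have hP0 : ∀ (d : Cᵒᵖ) (g : d.unop ⟶ c.unop),
        (pullback.fst η η).app d (P0.app d g) = F.map g.op x ∧
        (pullback.snd η η).app d (P0.app d g) = F.map g.op y := fun d g => by
      constructor
      · exact (NatTrans.naturality_apply (pullback.fst η η) g.op p).trans (congrArg _ hp1)
      · exact (NatTrans.naturality_apply (pullback.snd η η) g.op p).trans (congrArg _ hp2)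
    have hw : v ≫ pullback.diagonal η = E.functorInclusion ≫ P0 := by
      apply NatTrans.ext; funext d; apply ConcreteCategory.hom_ext; intro g
      refine (hK d).2.1 _ _ ⟨?_, ?_⟩
      · exact (hdiag d _).1.trans (hP0 d g.1).1.symm
      · exact ((hdiag d _).2.trans g.2).trans (hP0 d g.1).2.symm
    have H : IsPullback v E.functorInclusion (pullback.diagonal η) P0 := by
      refine isPullback_of_app hw fun d => ?_
      rw [Types.isPullback_iff]
      refine ⟨congrArg (fun q : E.functor ⟶ pullback η η => q.app d) hw,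
        fun a b hab => Subtype.ext hab.2, fun z g hz => ?_⟩
      have e1 : z = F.map g.op x := (hdiag d z).1.symm.trans ((congrArg _ hz).trans (hP0 d g).1)
      have e2 : z = F.map g.op y := (hdiag d z).2.symm.trans ((congrArg _ hz).trans (hP0 d g).2)
      exact ⟨⟨g, e1.symm.trans e2⟩, e1.symm, rfl⟩
    have hE : E ∈ reflTop P c.unop := (mem_reflTop_iff P).2
      ((H.map (reflector P.ι)).isIso_snd_of_isIso hker)
    exact (hF.isSeparated _ hE).ext fun d g hg => hg
  have surj : ∀ c, Function.Surjective (η.app c) := by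
    intro c s
    let S := Presheaf.imageSieve η s
    let s' : yoneda.obj c.unop ⟶ G := yonedaEquiv.symm s
    let W := pullback η s'
    have hW := fun d : Cᵒᵖ => (Types.isPullback_iff _ _ _ _).1
      ((IsPullback.of_hasPullback η s').map ((evaluation Cᵒᵖ (Type u)).obj d))
    let q : W ⟶ S.functor :=
      { app := fun d => ↾fun w => ⟨(pullback.snd η s').app d w, (pullback.fst η s').app d w,
          congr($(NatTrans.congr_app (pullback.condition (f := η) (g := s')) d) w)⟩
        naturality := fun d e g => by ext w; exact Subtype.ext (congr($((pullback.snd η s').naturality g) w)) }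
    have hq : q ≫ S.functorInclusion = pullback.snd η s' := rfl
    have h1 : IsIso ((reflector P.ι).map (pullback.snd η s')) :=
      ((IsPullback.of_hasPullback η s').map (reflector P.ι)).isIso_snd_of_isIso hη
    have h2 : Mono ((reflector P.ι).map S.functorInclusion) := inferInstance
    have h3 : (reflector P.ι).map q ≫ (reflector P.ι).map S.functorInclusion =
        (reflector P.ι).map (pullback.snd η s') := by rw [← Functor.map_comp, hq]
    have h4 : SplitEpi ((reflector P.ι).map S.functorInclusion) :=
      ⟨inv ((reflector P.ι).map (pullback.snd η s')) ≫ (reflector P.ι).map q, by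
        rw [Category.assoc, h3, IsIso.inv_hom_id]⟩
    have := IsSplitEpi.mk' h4
    have hS : S ∈ reflTop P c.unop := (mem_reflTop_iff P).2 (isIso_of_mono_of_isSplitEpi _)
    choose t ht using fun (d : C) (g : d ⟶ c.unop) (hg : S g) => hg
    have hcomp : Presieve.FamilyOfElements.Compatible (P := F) (R := S.arrows) fun d g hg => t d g hg := by
      intro Y₁ Y₂ Z g₁ g₂ f₁ f₂ h₁ h₂ heq
      apply inj
      rw [NatTrans.naturality_apply η g₁.op, NatTrans.naturality_apply η g₂.op, ht, ht,
        ← Functor.map_comp_apply, ← Functor.map_comp_apply, ← op_comp, ← op_comp, heq]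
    obtain ⟨a, ha, -⟩ := hF S hS _ hcomp
    refine ⟨a, (hGs.isSeparated _ hS).ext fun d g hg => ?_⟩
    show G.map g.op _ = _
    rw [← NatTrans.naturality_apply η g.op, ha g hg, ht]
  have : IsIso η := by
    rw [NatTrans.isIso_iff_isIso_app]
    intro c
    rw [isIso_iff_bijective]
    exact ⟨inj c, surj c⟩
  exact P.prop_of_iso (asIso η).symm ((reflector P.ι).obj F).property

theorem exists_topology :
    ∃ J : GrothendieckTopology C,
      (∀ (X : C) (S : Sieve X), S ∈ J X ↔ IsIso ((reflector P.ι).map S.functorInclusion)) ∧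
      ∀ F : Cᵒᵖ ⥤ Type u, P F ↔ Presieve.IsSheaf J F :=
  ⟨reflTop P, fun _ _ => mem_reflTop_iff P, fun _ => ⟨isSheaf_of_mem P, mem_of_isSheaf P⟩⟩

end Groth.Agent.Lib.Giraud
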